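import Cfsg.Agent.Lib.SylowSquares.Blocks
import Cfsg.Agent.Lib.GL.Basic
import Cfsg.Agent.Lib.PSL2.Sylow
import Cfsg.Agent.S4623

/-!
# Base cases and valuations for the Sylow 2-subgroups of linear groups

* quaternion groups have the property, hence Sylow 2-subgroups of `SL₂` and of `GL₂` (`q ≡ 3 mod 4`);
* 2-adic valuations of `|GL_n(q)|`, `|SL_n(q)|`.
-/

set_option autoImplicit false

namespace Cfsg.Agent.SylowSquares

open Matrix Subgroup
open scoped MatrixGroups commutatorElement

theorem sqDer_quaternion {k : ℕ} (hk : 1 ≤ k) : SqDer (QuaternionGroup (2 ^ k)) := by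
  set n := 2 ^ k with hn
  have hmem : ∀ j : ZMod (2 * n), QuaternionGroup.a (2 * j) ∈ commutator (QuaternionGroup n) := by
    intro j
    have h := commutator_mem_commutator (mem_top (QuaternionGroup.xa (0 : ZMod (2 * n))))
      (mem_top (QuaternionGroup.a (-j)))
    rw [← _root_.commutator_def, commutatorElement_def] at h
    convert h using 1
    show _ = QuaternionGroup.xa 0 * QuaternionGroup.a (-j) * QuaternionGroup.xa ((n : ZMod (2 * n)) + 0) * QuaternionGroup.a (- -j)
    simp only [QuaternionGroup.xa_mul_a, QuaternionGroup.xa_mul_xa, QuaternionGroup.a_mul_a]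
    congr 1
    have : ((n : ZMod (2 * n)) + n) = 0 := by
      rw [← two_mul]
      exact_mod_cast ZMod.natCast_self (2 * n)
    linear_combination -this
  have hn2 : (n : ZMod (2 * n)) = 2 * ((2 ^ (k - 1) : ℕ) : ZMod (2 * n)) := by
    rw [show n = 2 * 2 ^ (k - 1) by rw [hn, ← pow_succ']; congr 1; omega]
    push_cast
    ring
  rintro (i | i)
  · rw [pow_two, QuaternionGroup.a_mul_a, ← two_mul]
    exact hmem i
  · rw [pow_two, QuaternionGroup.xa_mul_xa, add_sub_cancel_right, hn2]
    exact hmem _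

variable (F : Type*) [Field F] [Fintype F]

theorem sqDer_sylow_SL2 (hF : Odd (Fintype.card F)) (S : Sylow 2 SL(2, F)) : SqDer ↥(S : Subgroup SL(2, F)) := by
  obtain ⟨k, hk, -, ⟨e⟩⟩ := PSL2.sylow_two_quaternion (PSL2.odd_card_iff.1 hF) S
  exact SqDer.congr e.symm (sqDer_quaternion hk)

theorem exists_sylow_GL2 (hF : Odd (Fintype.card F)) (hq : 4 ∣ Fintype.card F + 1) :
    ∃ Q : Subgroup (GL (Fin 2) F), Nat.card ↥Q = 2 ^ (Nat.card (GL (Fin 2) F)).factorization 2 ∧ SqDer ↥Q ∧
      ∃ r ∈ Q, r ^ 2 = 1 ∧ GeneralLinearGroup.det r = -1 ∧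
        ∀ g ∈ Q, GeneralLinearGroup.det g = 1 ∨ GeneralLinearGroup.det g = -1 := by
  have : Fact (Nat.Prime 2) := ⟨Nat.prime_two⟩
  set r : GL (Fin 2) F := GL.diagHom ![-1, 1] with hr
  have hr2 : r ^ 2 = 1 := by
    rw [hr, ← map_pow, show (![-1, 1] : Fin 2 → Fˣ) ^ 2 = 1 from funext fun i => by fin_cases i <;> simp, map_one]
  have hrd : GeneralLinearGroup.det r = -1 := by simp [hr, GL.det_diagHom]
  obtain ⟨Q, hQ⟩ := (IsPGroup.of_card (p := 2) (n := (orderOf r).factorization 2)
    (G := ↥(Subgroup.zpowers r)) (by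
      rw [Nat.card_zpowers]
      rcases (Nat.dvd_prime Nat.prime_two).1 (orderOf_dvd_of_pow_eq_one hr2) with h | h <;>
        simp [h, Nat.prime_two.factorization_self])).exists_le_sylow
  have hrQ : r ∈ (Q : Subgroup (GL (Fin 2) F)) := hQ (Subgroup.mem_zpowers r)
  have hdet : ∀ g ∈ (Q : Subgroup (GL (Fin 2) F)),
      GeneralLinearGroup.det g = 1 ∨ GeneralLinearGroup.det g = -1 := by
    intro g hg
    obtain ⟨k, hk⟩ := Q.isPGroup' ⟨g, hg⟩
    have hk' : g ^ 2 ^ k = 1 := congrArg Subtype.val hk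
    obtain ⟨j, -, hj⟩ := (Nat.dvd_prime_pow Nat.prime_two).1
      ((orderOf_map_dvd GeneralLinearGroup.det g).trans (orderOf_dvd_of_pow_eq_one hk'))
    have h1 : 2 ^ j ∣ Fintype.card F - 1 := hj ▸ (GL.card_units_field (F := F) ▸ orderOf_dvd_natCard _)
    have hj1 : j ≤ 1 := by
      by_contra h
      have := (pow_dvd_pow 2 (show 2 ≤ j by omega)).trans h1
      omega
    have h2 : GeneralLinearGroup.det g ^ 2 = 1 :=
      orderOf_dvd_iff_pow_eq_one.1 (hj ▸ (pow_dvd_pow 2 hj1).trans (by norm_num))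
    rw [Units.ext_iff, Units.ext_iff]
    simpa [sq_eq_one_iff] using congrArg Units.val h2
  refine ⟨Q, Q.card_eq_multiplicity, ?_, r, hrQ, hr2, hrd, hdet⟩
  obtain ⟨S⟩ : Nonempty (Sylow 2 SL(2, F)) := inferInstance
  have hK := (sqDer_sylow_SL2 F hF S).map (GL.slEquivDetKer (ι := Fin 2) (R := F)).toMonoidHom
  have hKQ := SqDer.inf_normal Q (by
    rw [Subgroup.card_map_of_injective (GL.slEquivDetKer (ι := Fin 2) (R := F)).injective, S.card_eq_multiplicity,
      Nat.card_congr (GL.slEquivDetKer (ι := Fin 2) (R := F)).toEquiv]) hK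
  have hker : ∀ y ∈ (Q : Subgroup (GL (Fin 2) F)), GeneralLinearGroup.det y = 1 →
      y ^ 2 ∈ ⁅(Q : Subgroup (GL (Fin 2) F)), (Q : Subgroup (GL (Fin 2) F))⁆ := fun y hy h1 =>
    commutator_mono inf_le_left inf_le_left (hKQ.mem ⟨hy, MonoidHom.mem_ker.2 h1⟩)
  refine sqDer_of_mem fun g hg => ?_
  rcases hdet g hg with h | h
  · exact hker g hg h
  · have h1 : g * r ∈ (Q : Subgroup (GL (Fin 2) F)) := mul_mem hg hrQ
    have h2 : GeneralLinearGroup.det (g * r) = 1 := by rw [map_mul, h, hrd]; simp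
    have h3 : g = g * r * r := by rw [mul_assoc, ← pow_two, hr2, mul_one]
    rw [h3]
    exact mul_sq_mem h1 hrQ (hker _ h1 h2) (by rw [hr2]; exact one_mem _)

theorem exists_sylow_perm (n : ℕ) : ∃ T : Subgroup (Equiv.Perm (Fin n)),
    Nat.card ↥T = 2 ^ n.factorial.factorization 2 ∧ SqDer ↥T := by
  have : Fact (Nat.Prime 2) := ⟨Nat.prime_two⟩
  obtain ⟨T⟩ : Nonempty (Sylow 2 (Equiv.Perm (Fin n))) := inferInstance
  obtain ⟨A⟩ : Nonempty (Sylow 2 (alternatingGroup (Fin n))) := inferInstance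
  exact ⟨T, by rw [T.card_eq_multiplicity, Nat.card_perm, Nat.card_fin], (S4623.result 2 n T A).1⟩

/-! ### Valuations -/

theorem card_GL_congr {ι : Type*} [Fintype ι] [DecidableEq ι] (n : ℕ) (hι : Fintype.card ι = n) :
    Nat.card (GL ι F) = Nat.card (GL (Fin n) F) := by
  rw [GL.card_GL n hι, GL.card_GL n (Fintype.card_fin n)]

theorem factorization_card_GL (hF : Odd (Fintype.card F)) (n : ℕ) :
    (Nat.card (GL (Fin n) F)).factorization 2 =
      ∑ i ∈ Finset.range n, (Fintype.card F ^ (i + 1) - 1).factorization 2 := by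
  have hq := Fintype.one_lt_card (α := F)
  rw [GL.card_GL_prod, mul_comm, factorization_two_mul_odd ?_ hF.pow, Nat.factorization_prod ?_,
    Finsupp.finsetSum_apply, Finset.sum_Ico_eq_sum_range, Nat.add_sub_cancel]
  · simp_rw [add_comm 1]
  · intro i hi
    have := Nat.one_lt_pow (show i ≠ 0 by simp at hi; omega) hq
    omega
  · refine Finset.prod_ne_zero_iff.2 fun i hi => ?_
    have := Nat.one_lt_pow (show i ≠ 0 by simp at hi; omega) hq
    omega

theorem factorization_card_GL_eq {ι : Type*} [Fintype ι] [DecidableEq ι] [Nonempty ι] :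
    (Nat.card (GL ι F)).factorization 2 = (Nat.card (SpecialLinearGroup ι F)).factorization 2 +
      (Fintype.card F - 1).factorization 2 := by
  have hq := Fintype.one_lt_card (α := F)
  rw [GL.card_GL_eq_SL_mul_units, GL.card_units_field, Nat.factorization_mul Nat.card_pos.ne' (by omega),
    Finsupp.add_apply]

theorem factorization_card_GL_one_mod (hq : Fintype.card F % 4 = 1) (n : ℕ) :
    (Nat.card (GL (Fin n) F)).factorization 2 =
      n * (Fintype.card F - 1).factorization 2 + n.factorial.factorization 2 := by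
  have h1 := Fintype.one_lt_card (α := F)
  rw [factorization_card_GL F (Nat.odd_iff.2 (by omega)), factorization_factorial_eq,
    Finset.sum_congr rfl fun i _ => factorization_pow_sub_one hq (by omega) (i + 1) (by omega),
    Finset.sum_add_distrib, Finset.sum_const, Finset.card_range, smul_eq_mul]

theorem factorization_card_GL_three_mod (hq : Fintype.card F % 4 = 3) (m : ℕ) :
    (Nat.card (GL (Fin (2 * m)) F)).factorization 2 =
      m * (Nat.card (GL (Fin 2) F)).factorization 2 + m.factorial.factorization 2 := by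
  set q := Fintype.card F with hqdef
  have hodd : Odd q := Nat.odd_iff.2 (by omega)
  have hsq : q ^ 2 % 4 = 1 := by rw [Nat.pow_mod, hq]
  have hsq1 : q ^ 2 ≠ 1 := by
    have := Nat.one_lt_pow (two_ne_zero) (show 1 < q by omega)
    omega
  induction m with
  | zero => simp
  | succ m ih =>
    have hs : q ^ (2 * m + 1 + 1) = (q ^ 2) ^ (m + 1) := by rw [← pow_mul]; ring_nf
    rw [factorization_card_GL F hodd] at ih ⊢
    rw [show 2 * (m + 1) = 2 * m + 1 + 1 by ring, Finset.sum_range_succ, Finset.sum_range_succ, ih,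
      factorization_pow_sub_one_odd hodd (by omega) (odd_two_mul_add_one m), hs,
      factorization_pow_sub_one hsq hsq1 (m + 1) (by omega), Nat.factorial_succ,
      Nat.factorization_mul (by omega) m.factorial_ne_zero, Finsupp.add_apply,
      factorization_card_GL F hodd, Finset.sum_range_succ, Finset.sum_range_one, ← hqdef]
    ring_nf

end Cfsg.Agent.SylowSquares
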