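import Mathlib
import Cfsg.Agent.Lib.SylowCount.Basic

/-!
# 2-groups whose squares lie in the derived subgroup

* `SqDer H`: every square of `H` lies in `commutator H`;
* transport to all Sylow 2-subgroups; generation criterion; the wreathed construction in an ambient group;
* 2-adic valuations of `q^k - 1`.
-/

set_option autoImplicit false

namespace Cfsg.Agent.SylowSquares

open Subgroup
open scoped commutatorElement

universe u v w

/-- Every square lies in the derived subgroup. -/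
def SqDer (H : Type*) [Group H] : Prop := ∀ x : H, x ^ 2 ∈ commutator H

theorem SqDer.congr {H : Type u} {K : Type v} [Group H] [Group K] (e : H ≃* K) (h : SqDer H) : SqDer K := by
  intro y
  have h1 : (commutator H).map e.toMonoidHom ≤ commutator K := by
    rw [_root_.commutator_def, _root_.commutator_def, Subgroup.map_commutator]
    exact commutator_mono le_top le_top
  have := h1 ⟨_, h (e.symm y), rfl⟩
  simpa using this

theorem SqDer.sylow {G : Type u} [Group G] [Finite G] {R : Subgroup G}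
    (hR : Nat.card ↥R = 2 ^ (Nat.card G).factorization 2) (h : SqDer ↥R) (P : Sylow 2 G) :
    SqDer ↥(P : Subgroup G) := by
  have : Fact (Nat.Prime 2) := ⟨Nat.prime_two⟩
  exact SqDer.congr ((Sylow.ofCard R hR).equiv P) h

/-- Squares of `R` in its derived subgroup, computed in the ambient group. -/
theorem SqDer.mem {G : Type u} [Group G] {R : Subgroup G} (h : SqDer ↥R) {x : G} (hx : x ∈ R) :
    x ^ 2 ∈ ⁅R, R⁆ := by
  rw [← Subgroup.map_subtype_commutator]
  exact ⟨_, h ⟨x, hx⟩, rfl⟩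

theorem sqDer_of_mem {G : Type u} [Group G] {R : Subgroup G} (h : ∀ x ∈ R, x ^ 2 ∈ ⁅R, R⁆) : SqDer ↥R := by
  intro x
  have h1 := h x x.2
  rw [← Subgroup.map_subtype_commutator] at h1
  obtain ⟨y, hy, he⟩ := h1
  rwa [show x ^ 2 = y from Subtype.ext he.symm]

theorem mul_sq_mem {G : Type u} [Group G] {R : Subgroup G} {x y : G} (hx : x ∈ R) (hy : y ∈ R)
    (hx2 : x ^ 2 ∈ ⁅R, R⁆) (hy2 : y ^ 2 ∈ ⁅R, R⁆) : (x * y) ^ 2 ∈ ⁅R, R⁆ := by
  rw [← Subgroup.map_subtype_commutator] at hx2 hy2 ⊢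
  obtain ⟨a, ha, hae⟩ := hx2
  obtain ⟨b, hb, hbe⟩ := hy2
  refine ⟨(⟨x, hx⟩ * ⟨y, hy⟩ : ↥R) ^ 2, ?_, rfl⟩
  have ha' : (⟨x, hx⟩ : ↥R) ^ 2 ∈ commutator ↥R := by rwa [show (⟨x, hx⟩ : ↥R) ^ 2 = a from Subtype.ext hae.symm]
  have hb' : (⟨y, hy⟩ : ↥R) ^ 2 ∈ commutator ↥R := by rwa [show (⟨y, hy⟩ : ↥R) ^ 2 = b from Subtype.ext hbe.symm]
  rw [← Abelianization.ker_of] at ha' hb' ⊢
  rw [SetLike.mem_coe, MonoidHom.mem_ker] at *
  rw [map_pow] at ha' hb'
  rw [map_pow, map_mul, mul_pow, ha', hb', one_mul]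

theorem sqDer_sup {G : Type u} [Group G] {A B : Subgroup G}
    (hA : ∀ a ∈ A, a ^ 2 ∈ ⁅A ⊔ B, A ⊔ B⁆) (hB : ∀ b ∈ B, b ^ 2 ∈ ⁅A ⊔ B, A ⊔ B⁆) : SqDer ↥(A ⊔ B) := by
  refine sqDer_of_mem fun x hx => ?_
  obtain ⟨h1, h2⟩ : x ∈ A ⊔ B ∧ x ^ 2 ∈ ⁅A ⊔ B, A ⊔ B⁆ := by
    rw [← Subgroup.closure_eq A, ← Subgroup.closure_eq B, ← Subgroup.closure_union] at hx
    induction hx using Subgroup.closure_induction with
    | mem y hy =>
      rcases hy with hy | hy
      exacts [⟨mem_sup_left hy, hA y hy⟩, ⟨mem_sup_right hy, hB y hy⟩]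
    | one => exact ⟨one_mem _, by rw [one_pow]; exact one_mem _⟩
    | mul y z _ _ ihy ihz => exact ⟨mul_mem ihy.1 ihz.1, mul_sq_mem ihy.1 ihz.1 ihy.2 ihz.2⟩
    | inv y _ ih => exact ⟨inv_mem ih.1, by rw [inv_pow]; exact inv_mem ih.2⟩
  exact h2

theorem SqDer.map {G : Type u} {H : Type v} [Group G] [Group H] {R : Subgroup G} (h : SqDer ↥R) (f : G →* H) :
    SqDer ↥(R.map f) := by
  refine sqDer_of_mem ?_
  rintro _ ⟨x, hx, rfl⟩
  rw [← map_pow, ← map_commutator]
  exact mem_map_of_mem f (h.mem hx)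

theorem SqDer.top {G : Type u} [Group G] (h : SqDer G) : SqDer ↥(⊤ : Subgroup G) := h.congr Subgroup.topEquiv.symm

/-- An injective homomorphism from a group of Sylow order transports the property to every Sylow 2-subgroup. -/
theorem SqDer.sylow_of_hom {H : Type u} {G : Type v} [Group H] [Group G] [Finite G] (Φ : H →* G)
    (hΦ : Function.Injective Φ) (h : SqDer H) (hH : Nat.card H = 2 ^ (Nat.card G).factorization 2)
    (P : Sylow 2 G) : SqDer ↥(P : Subgroup G) :=
  (h.top.map Φ).sylow (by rw [Subgroup.card_map_of_injective hΦ, Subgroup.card_top, hH]) P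

/-- `P ⊓ N` inherits the property from any subgroup of `N` of Sylow order. -/
theorem SqDer.inf_normal {G : Type u} [Group G] [Finite G] (Q : Sylow 2 G) {N : Subgroup G} [N.Normal]
    {R : Subgroup ↥N} (hR : Nat.card ↥R = 2 ^ (Nat.card ↥N).factorization 2) (h : SqDer ↥R) :
    SqDer ↥((Q : Subgroup G) ⊓ N) := by
  have : Fact (Nat.Prime 2) := ⟨Nat.prime_two⟩
  obtain ⟨P, hP⟩ := SylowCount.exists_sylow_inf Q N
  have h1 := (h.sylow hR P).map N.subtype
  rwa [hP, subgroupOf_map_subtype] at h1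

/-- The trace on a normal subgroup of a subgroup of Sylow order has Sylow order. -/
theorem card_inf_normal {G : Type u} [Group G] [Finite G] {W : Subgroup G} (N : Subgroup G) [N.Normal]
    (hW : Nat.card ↥W = 2 ^ (Nat.card G).factorization 2) :
    Nat.card ↥(W ⊓ N) = 2 ^ (Nat.card ↥N).factorization 2 := by
  have : Fact (Nat.Prime 2) := ⟨Nat.prime_two⟩
  obtain ⟨R, hR⟩ := SylowCount.exists_sylow_inf (Sylow.ofCard W hW) N
  rw [← R.card_eq_multiplicity, ← subgroupOf_map_subtype W N,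
    Subgroup.card_map_of_injective N.subtype_injective, hR, Sylow.coe_ofCard]

/-! ### The wreathed construction -/

section Wreath

variable {G : Type u} [Group G] {G₀ : Type v} [Group G₀] {o : Type w}

/-- `ι` embeds `G₀^o`, `π` the permutations, compatibly and independently. -/
structure Setup (ι : (o → G₀) →* G) (π : Equiv.Perm o →* G) : Prop where
  compat : ∀ (σ : Equiv.Perm o) (f : o → G₀), π σ * ι f * (π σ)⁻¹ = ι (f ∘ σ.symm)
  indep : ∀ (f : o → G₀) (σ : Equiv.Perm o), ι f * π σ = 1 → f = 1 ∧ σ = 1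

variable {ι : (o → G₀) →* G} {π : Equiv.Perm o →* G}

/-- The subgroup of functions with values in `Q`. -/
def funs (Q : Subgroup G₀) : Subgroup (o → G₀) := Subgroup.pi Set.univ fun _ => Q

theorem mem_funs {Q : Subgroup G₀} {f : o → G₀} : f ∈ funs Q ↔ ∀ i, f i ∈ Q := by
  simp [funs, Subgroup.mem_pi]

/-- `Q ≀ T` inside `G`. -/
def wr (ι : (o → G₀) →* G) (π : Equiv.Perm o →* G) (Q : Subgroup G₀) (T : Subgroup (Equiv.Perm o)) :
    Subgroup G :=
  (funs Q).map ι ⊔ T.map π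

theorem Setup.le_normalizer (h : Setup ι π) (Q : Subgroup G₀) (T : Subgroup (Equiv.Perm o)) :
    T.map π ≤ normalizer ((funs Q).map ι : Set G) := by
  have aux : ∀ σ : Equiv.Perm o, ∀ x ∈ (funs Q).map ι, π σ * x * (π σ)⁻¹ ∈ (funs Q).map ι := by
    rintro σ _ ⟨f, hf, rfl⟩
    rw [h.compat]
    exact mem_map_of_mem ι (mem_funs.mpr fun i => mem_funs.mp hf _)
  rintro _ ⟨σ, -, rfl⟩
  refine mem_normalizer_iff.mpr fun x => ⟨aux σ x, fun hx => ?_⟩
  have h1 := aux σ⁻¹ _ hx
  rwa [map_inv, show (π σ)⁻¹ * (π σ * x * (π σ)⁻¹) * ((π σ)⁻¹)⁻¹ = x by group] at h1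

theorem Setup.mem_wr_iff (h : Setup ι π) {Q : Subgroup G₀} {T : Subgroup (Equiv.Perm o)} {x : G} :
    x ∈ wr ι π Q T ↔ ∃ f ∈ funs Q, ∃ σ ∈ T, x = ι f * π σ := by
  constructor
  · intro hx
    have hx' : x ∈ (((funs Q).map ι ⊔ T.map π : Subgroup G) : Set G) := hx
    rw [Subgroup.coe_mul_of_right_le_normalizer_left _ _ (h.le_normalizer Q T), Set.mem_mul] at hx'
    obtain ⟨_, ⟨f, hf, rfl⟩, _, ⟨σ, hσ, rfl⟩, rfl⟩ := hx'
    exact ⟨f, hf, σ, hσ, rfl⟩
  · rintro ⟨f, hf, σ, hσ, rfl⟩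
    exact mul_mem (mem_sup_left (mem_map_of_mem ι hf)) (mem_sup_right (mem_map_of_mem π hσ))

theorem Setup.card_wr [Fintype o] [Finite G₀] (h : Setup ι π) (Q : Subgroup G₀) (T : Subgroup (Equiv.Perm o)) :
    Nat.card ↥(wr ι π Q T) = Nat.card ↥Q ^ Fintype.card o * Nat.card ↥T := by
  have hbij : Function.Bijective (fun q : (o → ↥Q) × ↥T =>
      (⟨ι (fun i => (q.1 i : G₀)) * π q.2, h.mem_wr_iff.mpr ⟨_, mem_funs.mpr fun i => (q.1 i).2, _, q.2.2, rfl⟩⟩ :
        ↥(wr ι π Q T))) := by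
    constructor
    · rintro ⟨f, σ⟩ ⟨g, τ⟩ he
      have he' : ι (fun i => (f i : G₀)) * π σ = ι (fun i => (g i : G₀)) * π τ := congrArg Subtype.val he
      obtain ⟨h1, h2⟩ := h.indep ((fun i => (g i : G₀))⁻¹ * fun i => (f i : G₀)) ((σ : Equiv.Perm o) * (τ : Equiv.Perm o)⁻¹) (by
        rw [map_mul, map_inv, map_mul, map_inv, mul_assoc, ← mul_assoc (ι fun i => (f i : G₀)), he']
        group)
      rw [inv_mul_eq_one] at h1
      rw [mul_inv_eq_one] at h2
      exact Prod.ext (funext fun i => Subtype.ext (congrFun h1.symm i)) (Subtype.ext h2)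
    · rintro ⟨x, hx⟩
      obtain ⟨f, hf, σ, hσ, rfl⟩ := h.mem_wr_iff.mp hx
      exact ⟨(fun i => ⟨f i, mem_funs.mp hf i⟩, ⟨σ, hσ⟩), rfl⟩
  rw [← Nat.card_congr (Equiv.ofBijective _ hbij), Nat.card_prod, Nat.card_fun, Nat.card_eq_fintype_card (α := o)]

theorem funs_sq_mem [Fintype o] [DecidableEq o] {Q : Subgroup G₀} (hQ : SqDer ↥Q) {f : o → G₀}
    (hf : f ∈ funs Q) : f ^ 2 ∈ ⁅(funs Q : Subgroup (o → G₀)), funs Q⁆ := by
  refine Subgroup.pi_mem_of_mulSingle_mem _ fun i => ?_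
  have h1 := mem_map_of_mem (MonoidHom.mulSingle (fun _ : o => G₀) i) (hQ.mem (mem_funs.mp hf i))
  rw [map_commutator] at h1
  refine commutator_mono ?_ ?_ h1 <;>
  · rintro _ ⟨a, ha, rfl⟩
    refine mem_funs.mpr fun j => ?_
    simp only [MonoidHom.mulSingle_apply, Pi.mulSingle_apply]
    split_ifs with hji
    exacts [ha, one_mem _]

theorem Setup.sqDer_wr [Fintype o] {Q : Subgroup G₀} {T : Subgroup (Equiv.Perm o)}
    (hQ : SqDer ↥Q) (hT : SqDer ↥T) : SqDer ↥(wr ι π Q T) := by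
  classical
  refine sqDer_sup ?_ ?_
  · rintro _ ⟨f, hf, rfl⟩
    have h1 := mem_map_of_mem ι (funs_sq_mem hQ hf)
    rw [map_commutator, map_pow] at h1
    exact commutator_mono le_sup_left le_sup_left h1
  · rintro _ ⟨σ, hσ, rfl⟩
    have h1 := mem_map_of_mem π (hT.mem hσ)
    rw [map_commutator, map_pow] at h1
    exact commutator_mono le_sup_right le_sup_right h1

end Wreath

/-! ### Arithmetic -/

theorem odd_pow_sub_one_div {Q k : ℕ} (hQ : Odd Q) (hk : Odd k) :
    ∃ c, Odd c ∧ Q ^ k - 1 = (Q - 1) * c := by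
  refine ⟨∑ i ∈ Finset.range k, Q ^ i, ?_, ?_⟩
  · rw [Finset.odd_sum_iff_odd_card_odd, Finset.filter_true_of_mem fun i _ => hQ.pow, Finset.card_range]
    exact hk
  · have h := geom_sum_mul_add (Q - 1) k
    rw [Nat.sub_add_cancel (Nat.one_le_iff_ne_zero.mpr fun e => by subst e; simp at hQ)] at h
    rw [mul_comm, ← h, Nat.add_sub_cancel]

theorem factorization_two_mul_odd {a c : ℕ} (ha : a ≠ 0) (hc : Odd c) :
    (a * c).factorization 2 = a.factorization 2 := by
  rw [Nat.factorization_mul ha hc.pos.ne', Finsupp.add_apply,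
    Nat.factorization_eq_zero_of_not_dvd (n := c) fun h => Nat.not_even_iff_odd.mpr hc (even_iff_two_dvd.mpr h),
    add_zero]

/-- Odd exponents do not change the 2-part of `q^k - 1`. -/
theorem factorization_pow_sub_one_odd {q k : ℕ} (hq : Odd q) (hq1 : q ≠ 1) (hk : Odd k) :
    (q ^ k - 1).factorization 2 = (q - 1).factorization 2 := by
  obtain ⟨c, hc, he⟩ := odd_pow_sub_one_div hq hk
  have := hq.pos
  rw [he, factorization_two_mul_odd (by omega) hc]

/-- Lifting the exponent for `Q ≡ 1 mod 4`. -/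
theorem factorization_pow_sub_one {Q : ℕ} (hQ : Q % 4 = 1) (hQ1 : Q ≠ 1) :
    ∀ k : ℕ, 1 ≤ k → (Q ^ k - 1).factorization 2 = (Q - 1).factorization 2 + k.factorization 2 := by
  intro k
  induction k using Nat.strong_induction_on with
  | _ k ih =>
    intro hk
    rcases Nat.even_or_odd k with ⟨l, rfl⟩ | hodd
    · have hl : 1 ≤ l := by omega
      have h1 : 1 < Q ^ l := Nat.one_lt_pow (by omega) (by omega)
      have h2 : Q ^ (l + l) - 1 = (Q ^ l - 1) * (Q ^ l + 1) := by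
        rw [pow_add, Nat.mul_sub_right_distrib]
        ring_nf
        omega
      have hmod : (Q ^ l + 1) % 4 = 2 := by
        rw [Nat.add_mod, Nat.pow_mod, hQ, one_pow]; norm_num
      obtain ⟨c, hc⟩ : ∃ c, Q ^ l + 1 = 2 * (2 * c + 1) := ⟨(Q ^ l + 1) / 4, by omega⟩
      have h3 : (Q ^ l + 1).factorization 2 = 1 := by
        rw [hc, factorization_two_mul_odd two_ne_zero (odd_two_mul_add_one c), Nat.prime_two.factorization_self]
      have h4 : (l + l).factorization 2 = l.factorization 2 + 1 := by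
        rw [← two_mul, Nat.factorization_mul two_ne_zero (by omega), Finsupp.add_apply,
          Nat.prime_two.factorization_self, add_comm]
      rw [h2, Nat.factorization_mul (by omega) (by omega), Finsupp.add_apply, h3, ih l (by omega) hl, h4]
      ring
    · rw [factorization_pow_sub_one_odd (Nat.odd_iff.mpr (by omega)) hQ1 hodd,
        Nat.factorization_eq_zero_of_not_dvd (n := k) fun h => Nat.not_even_iff_odd.mpr hodd (even_iff_two_dvd.mpr h),
        add_zero]

theorem factorization_factorial_eq (n : ℕ) :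
    (n.factorial).factorization 2 = ∑ i ∈ Finset.range n, (i + 1).factorization 2 := by
  induction n with
  | zero => simp
  | succ n ih =>
    rw [Nat.factorial_succ, Nat.factorization_mul (by omega) n.factorial_ne_zero, Finsupp.add_apply, ih,
      Finset.sum_range_succ, add_comm]

end Cfsg.Agent.SylowSquares
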