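import Cfsg.Agent.Lib.SylowSquares.Basic

/-!
# Block diagonal and block permutation matrices as a wreath setup in `GL`
-/

set_option autoImplicit false

namespace Cfsg.Agent.SylowSquares

open Matrix

variable (F : Type*) [Field F] {κ o : Type*} [Fintype κ] [DecidableEq κ] [Fintype o] [DecidableEq o]

/-- block diagonal embedding -/
def blkHom : (o → GL κ F) →* GL (κ × o) F :=
  (Units.map (blockDiagonalRingHom κ o F).toMonoidHom).comp
    (MulEquiv.piUnits (M := fun _ : o => Matrix κ κ F)).symm.toMonoidHom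

theorem coe_blkHom (f : o → GL κ F) :
    (blkHom F f : Matrix (κ × o) (κ × o) F) = blockDiagonal fun k => (f k : Matrix κ κ F) := rfl

/-- permuting the blocks -/
def prodPermHom : Equiv.Perm o →* Equiv.Perm (κ × o) where
  toFun σ := Equiv.prodCongrRight fun _ => σ
  map_one' := Equiv.ext fun ⟨_, _⟩ => rfl
  map_mul' σ τ := Equiv.ext fun ⟨_, _⟩ => rfl

/-- block permutation matrices -/
def permHom : Equiv.Perm o →* GL (κ × o) F :=
  ((permMatrixHom (n := κ × o) (R := F)).comp prodPermHom).toHomUnits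

theorem coe_permHom (σ : Equiv.Perm o) :
    (permHom F (κ := κ) σ : Matrix (κ × o) (κ × o) F) =
      ((Equiv.prodCongrRight fun _ : κ => σ)⁻¹ : Equiv.Perm (κ × o)).toPEquiv.toMatrix := rfl

theorem permHom_mul_blockDiagonal (σ : Equiv.Perm o) (M : o → Matrix κ κ F) :
    (permHom F (κ := κ) σ : Matrix (κ × o) (κ × o) F) * blockDiagonal M =
      blockDiagonal (M ∘ σ.symm) * (permHom F (κ := κ) σ : Matrix (κ × o) (κ × o) F) := by
  rw [coe_permHom, PEquiv.toMatrix_toPEquiv_mul, PEquiv.mul_toMatrix_toPEquiv]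
  ext ⟨a, i⟩ ⟨b, j⟩
  simp only [submatrix_apply, id_eq]
  show blockDiagonal M (a, σ.symm i) (b, j) = blockDiagonal (M ∘ σ.symm) (a, i) (b, σ j)
  simp only [blockDiagonal_apply, Function.comp_apply, Equiv.symm_apply_eq]

theorem setup [Nonempty κ] : Setup (blkHom F (κ := κ) (o := o)) (permHom F (κ := κ)) := by
  refine ⟨fun σ f => ?_, fun f σ h => ?_⟩
  · rw [mul_inv_eq_iff_eq_mul]
    exact Units.ext (permHom_mul_blockDiagonal F σ fun k => (f k : Matrix κ κ F))
  · have hσ : σ = 1 := by
      refine Equiv.ext fun k => ?_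
      have h1 : (blkHom F f : Matrix (κ × o) (κ × o) F) = (permHom F (κ := κ) σ⁻¹ : Matrix (κ × o) (κ × o) F) := by
        rw [map_inv, eq_inv_of_mul_eq_one_left h]
      obtain ⟨a, b, hab⟩ : ∃ a b, (f k : Matrix κ κ F) a b ≠ 0 := by
        by_contra hh
        push Not at hh
        exact (f k).ne_zero (Matrix.ext hh)
      by_contra hne
      have h2 := congrFun (congrFun h1 (a, k)) (b, k)
      rw [coe_blkHom, blockDiagonal_apply_eq, coe_permHom, PEquiv.toMatrix_apply] at h2
      rw [h2, if_neg] at hab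
      · exact hab rfl
      · simp only [Equiv.toPEquiv_apply, Option.mem_def, Option.some.injEq]
        intro e
        apply hne
        rw [Equiv.Perm.inv_eq_iff_eq] at e
        have e'' : k = σ⁻¹ k := congrArg Prod.snd e
        rw [Equiv.Perm.eq_inv_iff_eq] at e''
        exact e''
    subst hσ
    rw [map_one, mul_one] at h
    refine ⟨funext fun k => Units.ext (Matrix.ext fun a b => ?_), rfl⟩
    have h2 := congrFun (congrFun (congrArg (fun g : GL (κ × o) F => (g : Matrix (κ × o) (κ × o) F)) h) (a, k)) (b, k)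
    rw [coe_blkHom, blockDiagonal_apply_eq] at h2
    rw [h2]
    show (1 : Matrix (κ × o) (κ × o) F) (a, k) (b, k) = (1 : Matrix κ κ F) a b
    by_cases e : a = b
    · subst e; simp
    · rw [Matrix.one_apply_ne (fun h => e (congrArg Prod.fst h))]
      simp [Matrix.one_apply_ne e]

theorem det_blkHom (f : o → GL κ F) :
    GeneralLinearGroup.det (blkHom F f) = ∏ k, GeneralLinearGroup.det (f k) := by
  refine Units.ext ?_
  rw [Units.coe_prod]
  exact det_blockDiagonal _

theorem coe_det_permHom (σ : Equiv.Perm o) :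
    ((GeneralLinearGroup.det (permHom F (κ := κ) σ) : Fˣ) : F) =
      (((Equiv.Perm.sign σ) ^ Fintype.card κ : ℤˣ) : ℤ) := by
  show Matrix.det (((Equiv.prodCongrRight fun _ : κ => σ)⁻¹ : Equiv.Perm (κ × o)).permMatrix F) = _
  rw [det_permutation, Equiv.Perm.sign_inv, Equiv.Perm.sign_prodCongrRight, Finset.prod_const, Finset.card_univ]

theorem det_permHom_of_even (hκ : Even (Fintype.card κ)) (σ : Equiv.Perm o) :
    GeneralLinearGroup.det (permHom F (κ := κ) σ) = 1 := by
  refine Units.ext ?_
  rw [coe_det_permHom]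
  obtain ⟨c, hc⟩ := hκ
  rw [hc, pow_add, Int.units_mul_self]
  simp

end Cfsg.Agent.SylowSquares
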