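import Cfsg.Agent.Lib.SylowSquares.Basic
import Cfsg.Agent.Lib.DerivedLength.LinearPGroup

/-!
# Derived length of 2-groups of permutations and of `Q ≀ T`

* `derivedSeries_perm_eq_bot`: a 2-group of permutations of `n` points has derived length at most `log₂ n`;
* `Setup.derivedSeries_wr_eq_bot`: upper bound for `Q ≀ T`;
* `exists_derived_ne`: doubling lemma for lower bounds.
-/

set_option autoImplicit false

namespace Cfsg.Agent.SylowSquares

open Subgroup MulAction
open scoped commutatorElement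

universe u v w

/-- A 2-group acting with orbits of fewer than `2^(a+1)` points: the `a`-th derived subgroup acts trivially. -/
theorem derivedSeries_smul_eq {α : Type v} [Finite α] :
    ∀ (a : ℕ) (P : Type u) [Group P] [Finite P] [MulAction P α], IsPGroup 2 P →
      (∀ x : α, (MulAction.orbit P x).ncard < 2 ^ (a + 1)) → ∀ g ∈ derivedSeries P a, ∀ x : α, g • x = x := by
  intro a
  have : Fact (Nat.Prime 2) := ⟨Nat.prime_two⟩
  induction a with
  | zero =>
    intro P _ _ _ _ h g _ x
    have h1 : (MulAction.orbit P x).ncard ≤ 1 := by have h2 := h x; rw [zero_add, pow_one] at h2; omega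
    exact (Set.ncard_le_one_iff (Set.toFinite _)).1 h1 (MulAction.mem_orbit x g) (MulAction.mem_orbit_self x)
  | succ a ih =>
    intro P _ _ _ hP h g hg x
    obtain ⟨g', hg', rfl⟩ := DerivedLength.derivedSeries_succ_le_map (le_refl (_root_.commutator P)) a hg
    refine ih ↥(_root_.commutator P) (hP.to_subgroup _) (fun y => ?_) g' hg' x
    have hsub : ∀ (M : Subgroup P), _root_.commutator P ≤ M →
        MulAction.orbit ↥(_root_.commutator P) y ⊆ MulAction.orbit ↥M y := by
      rintro M hM _ ⟨c, rfl⟩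
      exact ⟨⟨c, hM c.2⟩, rfl⟩
    by_cases hs : (MulAction.orbit P y).ncard < 2 ^ (a + 1)
    · refine lt_of_le_of_lt (Set.ncard_le_ncard ?_ (Set.toFinite _)) hs
      rintro _ ⟨c, rfl⟩
      exact ⟨(c : P), rfl⟩
    · obtain ⟨H, hH⟩ : ∃ H : Subgroup P, H = MulAction.stabilizer P y := ⟨_, rfl⟩
      have hidx : H.index = (MulAction.orbit P y).ncard := by rw [hH, MulAction.index_stabilizer]
      obtain ⟨j, hj⟩ := hP.index H
      have hj1 : j = a + 1 := by
        have h2 := h y
        rw [← hidx, hj] at h2 hs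
        have h3 := (Nat.pow_lt_pow_iff_right one_lt_two).1 h2
        have h4 : a + 1 ≤ j := (Nat.pow_le_pow_iff_right one_lt_two).1 (not_lt.1 hs)
        omega
      subst hj1
      have hne : H ≠ ⊤ := by
        intro e
        rw [e, Subgroup.index_top] at hj
        exact absurd hj.symm (Nat.one_lt_pow (by omega) one_lt_two).ne'
      obtain ⟨M, hM, hHM⟩ := (eq_top_or_exists_le_coatom H).resolve_left hne
      have : Group.IsNilpotent P := hP.isNilpotent
      have hMn : M.Normal := NormalizerCondition.normal_of_coatom M Group.normalizerCondition_of_isNilpotent hM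
      obtain ⟨i, hi⟩ := hP.index M
      have hM1 : 2 ∣ M.index := by
        have : M.index ≠ 1 := fun e => hM.1 (Subgroup.index_eq_one.1 e)
        rcases i with _ | i
        · simp_all
        · exact hi ▸ dvd_pow_self 2 (by omega)
      have hcomm : _root_.commutator P ≤ M := by
        obtain ⟨g₀, hg₀⟩ : ∃ g₀, g₀ ∉ M := by
          by_contra hh
          push Not at hh
          exact hM.1 (eq_top_iff.2 fun c _ => hh c)
        have htop : (Subgroup.zpowers (g₀ : P ⧸ M)).comap (QuotientGroup.mk' M) = ⊤ := by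
          refine hM.2 _ (lt_of_le_of_ne (fun c hc => ?_) fun e => hg₀ (e ▸ Subgroup.mem_zpowers (g₀ : P ⧸ M)))
          show (QuotientGroup.mk' M) c ∈ Subgroup.zpowers (g₀ : P ⧸ M)
          rw [QuotientGroup.mk'_apply, (QuotientGroup.eq_one_iff c).2 hc]
          exact one_mem _
        have hcy : ∀ u v : P ⧸ M, u * v = v * u := by
          intro u v
          induction u using QuotientGroup.induction_on with | _ u => ?_
          induction v using QuotientGroup.induction_on with | _ v => ?_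
          obtain ⟨k, hk⟩ := Subgroup.mem_zpowers_iff.1 (show (QuotientGroup.mk' M) u ∈ _ from htop.ge (Subgroup.mem_top u))
          obtain ⟨l, hl⟩ := Subgroup.mem_zpowers_iff.1 (show (QuotientGroup.mk' M) v ∈ _ from htop.ge (Subgroup.mem_top v))
          simp only [QuotientGroup.mk'_apply] at hk hl
          rw [← hk, ← hl, ← zpow_add, ← zpow_add, add_comm]
        rw [_root_.commutator_def, Subgroup.commutator_le]
        intro u _ v _
        rw [← QuotientGroup.eq_one_iff, commutatorElement_def, QuotientGroup.mk_mul, QuotientGroup.mk_mul,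
          QuotientGroup.mk_mul, hcy (u : P ⧸ M) (v : P ⧸ M)]
        simp
      refine lt_of_le_of_lt (Set.ncard_le_ncard (hsub M hcomm) (Set.toFinite _)) ?_
      have h5 : (MulAction.stabilizer (↥M) y).index * M.index = H.index := by
        have : MulAction.stabilizer (↥M) y = H.subgroupOf M := by
          subst hH
          ext c
          simp [Subgroup.mem_subgroupOf, Subgroup.smul_def]
        rw [this]
        exact Subgroup.relIndex_mul_index hHM
      rw [MulAction.index_stabilizer, hj] at h5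
      have hpos : 0 < (MulAction.orbit ↥M y).ncard :=
        (Set.ncard_pos (Set.toFinite _)).2 ⟨y, MulAction.mem_orbit_self y⟩
      obtain ⟨c, hc⟩ := hM1
      rw [hc] at h5
      have h6 : 2 * ((MulAction.orbit ↥M y).ncard * c) = 2 * 2 ^ a := by rw [← pow_succ', ← h5]; ring
      have h7 : (MulAction.orbit ↥M y).ncard * c = 2 ^ a := by omega
      calc (MulAction.orbit ↥M y).ncard ≤ (MulAction.orbit ↥M y).ncard * c :=
            Nat.le_mul_of_pos_right _ (Nat.pos_of_ne_zero fun e => by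
              subst e; rw [mul_zero] at h7; exact (Nat.two_pow_pos a).ne h7)
        _ = 2 ^ a := h7
        _ < 2 ^ (a + 1) := Nat.pow_lt_pow_right one_lt_two (by omega)

/-- A 2-group of permutations of `n` points has derived length at most `log₂ n`. -/
theorem derivedSeries_perm_eq_bot {α : Type v} [Finite α] (T : Subgroup (Equiv.Perm α)) (hT : IsPGroup 2 ↥T) :
    derivedSeries ↥T (Nat.log 2 (Nat.card α)) = ⊥ := by
  rw [eq_bot_iff]
  intro g hg
  refine Subgroup.mem_bot.2 (Subtype.ext (Equiv.ext fun x => ?_))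
  have := derivedSeries_smul_eq (α := α) _ ↥T hT (fun y => lt_of_le_of_lt (Set.ncard_le_card _)
    (Nat.lt_pow_succ_log_self one_lt_two _)) g hg x
  simpa [Subgroup.smul_def] using this

section Wreath

variable {G : Type u} [Group G] {G₀ : Type v} [Group G₀] {o : Type w}
variable {ι : (o → G₀) →* G} {π : Equiv.Perm o →* G}

theorem Setup.unique (h : Setup ι π) {f g : o → G₀} {σ τ : Equiv.Perm o} (he : ι f * π σ = ι g * π τ) :
    f = g ∧ σ = τ := by
  obtain ⟨h1, h2⟩ := h.indep (g⁻¹ * f) (σ * τ⁻¹) (by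
    rw [map_mul, map_inv, map_mul, map_inv, mul_assoc, ← mul_assoc (ι f), he]; group)
  exact ⟨(inv_mul_eq_one.1 h1).symm, mul_inv_eq_one.1 h2⟩

theorem Setup.mul_eq (h : Setup ι π) (f g : o → G₀) (σ τ : Equiv.Perm o) :
    ι f * π σ * (ι g * π τ) = ι (f * g ∘ σ.symm) * π (σ * τ) := by
  rw [map_mul, map_mul, ← h.compat]
  group

/-- The derived length of `Q ≀ T` is at most the sum of the derived lengths. -/
theorem Setup.derivedSeries_wr_eq_bot (h : Setup ι π) {Q : Subgroup G₀} {T : Subgroup (Equiv.Perm o)} {a b : ℕ}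
    (hQ : derivedSeries ↥Q b = ⊥) (hT : derivedSeries ↥T a = ⊥) :
    derivedSeries ↥(wr ι π Q T) (a + b) = ⊥ := by
  classical
  have hex : ∀ x : ↥(wr ι π Q T), ∃ σ : ↥T, ∃ f ∈ funs Q, (x : G) = ι f * π σ := fun x => by
    obtain ⟨f, hf, σ, hσ, he⟩ := h.mem_wr_iff.1 x.2
    exact ⟨⟨σ, hσ⟩, f, hf, he⟩
  choose pr hpr using hex
  choose fc hfc hxe using hpr
  let φ : ↥(wr ι π Q T) →* ↥T := MonoidHom.mk' pr fun x y => by
    apply Subtype.ext
    refine (h.unique (f := fc (x * y)) (g := fc x * fc y ∘ (pr x : Equiv.Perm o).symm) ?_).2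
    rw [Subgroup.coe_mul, ← h.mul_eq, ← hxe, ← hxe, ← hxe]
    rfl
  have hker : ∀ x, x ∈ derivedSeries ↥(wr ι π Q T) a → ∃ f ∈ funs Q, (x : G) = ι f := by
    intro x hx
    have h1 : φ x = 1 := by
      have := map_derivedSeries_le_derivedSeries φ a (mem_map_of_mem φ hx)
      rwa [hT, Subgroup.mem_bot] at this
    exact ⟨fc x, hfc x, by rw [hxe x, show pr x = 1 from h1]; simp⟩
  have key : ∀ i : ℕ, ∀ x, x ∈ derivedSeries ↥(wr ι π Q T) (a + i) →
      ∃ f ∈ funs Q, (∀ j, ∃ q ∈ derivedSeries ↥Q i, (q : G₀) = f j) ∧ (x : G) = ι f := by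
    intro i
    induction i with
    | zero =>
      intro x hx
      obtain ⟨f, hf, he⟩ := hker x hx
      exact ⟨f, hf, fun j => ⟨⟨f j, mem_funs.1 hf j⟩, by simp, rfl⟩, he⟩
    | succ i ih =>
      intro x hx
      rw [← add_assoc, derivedSeries_succ] at hx
      rw [Subgroup.commutator_def] at hx
      induction hx using Subgroup.closure_induction with
      | mem y hy =>
        obtain ⟨y₁, hy₁, y₂, hy₂, rfl⟩ := hy
        obtain ⟨f, hf, hfq, hfe⟩ := ih y₁ hy₁
        obtain ⟨g, hg, hgq, hge⟩ := ih y₂ hy₂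
        refine ⟨⁅f, g⁆, ?_, fun j => ?_, ?_⟩
        · rw [commutatorElement_def]
          exact mul_mem (mul_mem (mul_mem hf hg) (inv_mem hf)) (inv_mem hg)
        · obtain ⟨p, hp, hpe⟩ := hfq j
          obtain ⟨q, hq, hqe⟩ := hgq j
          refine ⟨⁅p, q⁆, ?_, ?_⟩
          · rw [derivedSeries_succ]; exact commutator_mem_commutator hp hq
          · simp [commutatorElement_def, hpe, hqe]
        · simp [commutatorElement_def, hfe, hge]
      | one => exact ⟨1, one_mem _, fun j => ⟨1, one_mem _, rfl⟩, by simp⟩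
      | mul y z _ _ ihy ihz =>
        obtain ⟨f, hf, hfq, hfe⟩ := ihy
        obtain ⟨g, hg, hgq, hge⟩ := ihz
        refine ⟨f * g, mul_mem hf hg, fun j => ?_, by simp [hfe, hge]⟩
        obtain ⟨p, hp, hpe⟩ := hfq j
        obtain ⟨q, hq, hqe⟩ := hgq j
        exact ⟨p * q, mul_mem hp hq, by simp [hpe, hqe]⟩
      | inv y _ ihy =>
        obtain ⟨f, hf, hfq, hfe⟩ := ihy
        refine ⟨f⁻¹, inv_mem hf, fun j => ?_, by simp [hfe]⟩
        obtain ⟨p, hp, hpe⟩ := hfq j
        exact ⟨p⁻¹, inv_mem hp, by simp [hpe]⟩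
  rw [eq_bot_iff]
  intro x hx
  obtain ⟨f, -, hfq, hfe⟩ := key b x hx
  refine Subgroup.mem_bot.2 (Subtype.ext ?_)
  rw [hfe, show f = 1 from funext fun j => by
    obtain ⟨q, hq, hqe⟩ := hfq j
    rw [hQ, Subgroup.mem_bot] at hq
    rw [← hqe, hq]; rfl, map_one]
  rfl

end Wreath

theorem derivedSeries_ne_bot_of_le {G : Type u} [Group G] {H K : Subgroup G} (hHK : H ≤ K) {d : ℕ}
    (h : derivedSeries ↥H d ≠ ⊥) : derivedSeries ↥K d ≠ ⊥ := by
  intro e
  refine h (eq_bot_iff.2 fun x hx => ?_)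
  have := map_derivedSeries_le_derivedSeries (Subgroup.inclusion hHK) d (mem_map_of_mem _ hx)
  rw [e, Subgroup.mem_bot] at this
  exact Subgroup.mem_bot.2 (Subgroup.inclusion_injective hHK (this.trans (map_one _).symm))

/-- If `A` and `τ A τ⁻¹` commute and meet trivially, `⟨A, τ⟩` has larger derived length than `A`. -/
theorem exists_derived_ne {G : Type u} [Group G] {A W : Subgroup G} {τ : G} (hA : A ≤ W) (hτ : τ ∈ W)
    (hcomm : ∀ a ∈ A, ∀ b ∈ A, Commute a (τ * b * τ⁻¹))
    (hdisj : ∀ a ∈ A, ∀ b ∈ A, a * (τ * b * τ⁻¹) = 1 → a = 1) {d : ℕ} (h : derivedSeries ↥A d ≠ ⊥) :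
    derivedSeries ↥W (d + 1) ≠ ⊥ := by
  let m : ↥A × ↥A →* G := MonoidHom.mk' (fun p => (p.1 : G) * (τ * p.2 * τ⁻¹)) fun p q => by
    have := (hcomm q.1 q.1.2 p.2 p.2.2).eq
    simp only [Prod.fst_mul, Prod.snd_mul, Subgroup.coe_mul]
    rw [show τ * (↑p.2 * ↑q.2) * τ⁻¹ = τ * ↑p.2 * τ⁻¹ * (τ * ↑q.2 * τ⁻¹) by group,
      mul_assoc (p.1 : G), ← mul_assoc (q.1 : G), this]
    group
  let D : Subgroup (↥A × ↥A) := ((_root_.commutator ↥W).map W.subtype).comap m
  have hD : ∀ a : ↥A, (a, a⁻¹) ∈ D := fun a => by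
    have h1 := commutator_mem_commutator (Subgroup.mem_top (⟨a, hA a.2⟩ : ↥W)) (Subgroup.mem_top (⟨τ, hτ⟩ : ↥W))
    rw [← _root_.commutator_def] at h1
    refine ⟨_, h1, ?_⟩
    simp only [m, MonoidHom.mk'_apply, Subgroup.coe_subtype, commutatorElement_def, Subgroup.coe_mul,
      InvMemClass.coe_inv]
    group
  intro e
  refine h (eq_bot_iff.2 fun x hx => ?_)
  obtain ⟨z, hz, rfl⟩ := derivedSeries_le_map_derivedSeries
    (f := (MonoidHom.fst ↥A ↥A).comp D.subtype) (fun a => ⟨⟨(a, a⁻¹), hD a⟩, rfl⟩) d hx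
  have key : ∀ i : ℕ, (derivedSeries ↥D i).map (m.comp D.subtype) ≤ (derivedSeries ↥W (i + 1)).map W.subtype := by
    intro i
    induction i with
    | zero =>
      rintro _ ⟨y, -, rfl⟩
      exact y.2
    | succ i ih =>
      rw [derivedSeries_succ, derivedSeries_succ ↥W (i + 1), map_commutator, map_commutator]
      exact commutator_mono ih ih
  have h2 := key d (mem_map_of_mem _ hz)
  rw [e, Subgroup.map_bot, Subgroup.mem_bot] at h2
  refine Subgroup.mem_bot.2 (Subtype.ext ?_)
  exact hdisj _ (z : ↥A × ↥A).1.2 _ (z : ↥A × ↥A).2.2 h2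

end Cfsg.Agent.SylowSquares
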