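import Cfsg.Agent.Lib.SylowSquares.Two

/-!
# Sylow 2-subgroups of linear groups, `q ≡ 3 mod 4`

* `sqDer_sylow_SL`: transport from a subgroup of the kernel of the determinant;
* `exists_wr_GL_three_mod`: Sylow 2-subgroups of `GL_{2m}(q)` as wreathed groups;
* `exists_wr_SL_three_mod`: the same for the kernel of the determinant.
-/

set_option autoImplicit false

namespace Cfsg.Agent.SylowSquares

open Matrix Subgroup
open scoped MatrixGroups commutatorElement

variable (F : Type*) [Field F] [Fintype F]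

theorem sqDer_sylow_SL {ι : Type*} [Fintype ι] [DecidableEq ι] [Nonempty ι] {n : ℕ} (hι : Fintype.card ι = n)
    {R : Subgroup (GL ι F)} (hR : R ≤ (GeneralLinearGroup.det : GL ι F →* Fˣ).ker)
    (hcard : Nat.card ↥R = 2 ^ (Nat.card ↥(GeneralLinearGroup.det : GL ι F →* Fˣ).ker).factorization 2)
    (h : SqDer ↥R) (P : Sylow 2 (SpecialLinearGroup (Fin n) F)) :
    SqDer ↥(P : Subgroup (SpecialLinearGroup (Fin n) F)) := by
  subst hι
  let e : ι ≃ Fin (Fintype.card ι) := Fintype.equivFin ι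
  let Φ : ↥R →* SpecialLinearGroup (Fin (Fintype.card ι)) F :=
    { toFun := fun w => ⟨reindexAlgEquiv F F e (w.1 : Matrix ι ι F), by
        rw [det_reindexAlgEquiv]
        exact congrArg Units.val (MonoidHom.mem_ker.1 (hR w.2))⟩
      map_one' := Subtype.ext (map_one _)
      map_mul' := fun a b => Subtype.ext (map_mul _ _ _) }
  refine SqDer.sylow_of_hom Φ
    (fun a b he => Subtype.ext (Units.ext ((reindexAlgEquiv F F e).injective (congrArg Subtype.val he)))) h ?_ P
  have h1 := factorization_card_GL_eq (F := F) (ι := ι)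
  rw [card_GL_congr F _ rfl, factorization_card_GL_eq (F := F) (ι := Fin (Fintype.card ι))] at h1
  rw [hcard, ← Nat.card_congr (GL.slEquivDetKer (ι := ι) (R := F)).toEquiv]
  congr 1
  omega

theorem exists_wr_GL_three_mod (hq : Fintype.card F % 4 = 3) (m : ℕ) :
    ∃ (Q : Subgroup (GL (Fin 2) F)) (T : Subgroup (Equiv.Perm (Fin m))), SqDer ↥Q ∧ SqDer ↥T ∧
      (∃ r ∈ Q, r ^ 2 = 1 ∧ GeneralLinearGroup.det r = -1 ∧
        ∀ g ∈ Q, GeneralLinearGroup.det g = 1 ∨ GeneralLinearGroup.det g = -1) ∧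
      Nat.card ↥Q = 2 ^ (Nat.card (GL (Fin 2) F)).factorization 2 ∧
      Nat.card ↥(wr (blkHom F (κ := Fin 2) (o := Fin m)) (permHom F (κ := Fin 2)) Q T) =
        2 ^ (Nat.card (GL (Fin 2 × Fin m) F)).factorization 2 := by
  obtain ⟨Q, hQc, hQs, hr⟩ := exists_sylow_GL2 F (Nat.odd_iff.2 (by omega)) (by omega)
  obtain ⟨T, hTc, hTs⟩ := exists_sylow_perm m
  refine ⟨Q, T, hQs, hTs, hr, hQc, ?_⟩
  rw [(setup F).card_wr, hQc, hTc, Fintype.card_fin, ← pow_mul, ← pow_add,
    card_GL_congr F (ι := Fin 2 × Fin m) (2 * m) (by simp), factorization_card_GL_three_mod F hq m, mul_comm _ m]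

theorem exists_wr_SL_three_mod (hq : Fintype.card F % 4 = 3) (m : ℕ) :
    ∃ R : Subgroup (GL (Fin 2 × Fin m) F), R ≤ GeneralLinearGroup.det.ker ∧
      Nat.card ↥R = 2 ^ (Nat.card ↥(GeneralLinearGroup.det : GL (Fin 2 × Fin m) F →* Fˣ).ker).factorization 2 ∧
      SqDer ↥R := by
  classical
  have : Fact (Nat.Prime 2) := ⟨Nat.prime_two⟩
  obtain ⟨Q, T, -, hTs, ⟨r, hrQ, hr2, hrd, hdet⟩, hQc, hWc⟩ := exists_wr_GL_three_mod F hq m
  set W := wr (blkHom F (κ := Fin 2) (o := Fin m)) (permHom F (κ := Fin 2)) Q T with hWdef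
  set N := (GeneralLinearGroup.det : GL (Fin 2 × Fin m) F →* Fˣ).ker with hN
  refine ⟨W ⊓ N, inf_le_right, card_inf_normal N hWc, ?_⟩
  set R := W ⊓ N
  have hQK : SqDer ↥(Q ⊓ (GeneralLinearGroup.det : GL (Fin 2) F →* Fˣ).ker) := by
    obtain ⟨S⟩ : Nonempty (Sylow 2 SL(2, F)) := inferInstance
    have hK := (sqDer_sylow_SL2 F (Nat.odd_iff.2 (by omega)) S).map
      (GL.slEquivDetKer (ι := Fin 2) (R := F)).toMonoidHom
    have := SqDer.inf_normal (Sylow.ofCard Q hQc) (by
      rw [Subgroup.card_map_of_injective (GL.slEquivDetKer (ι := Fin 2) (R := F)).injective, S.card_eq_multiplicity,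
        Nat.card_congr (GL.slEquivDetKer (ι := Fin 2) (R := F)).toEquiv]) hK
    rwa [Sylow.coe_ofCard] at this
  set Q₀ := Q ⊓ (GeneralLinearGroup.det : GL (Fin 2) F →* Fˣ).ker with hQ₀
  have hperm : T.map (permHom F (κ := Fin 2)) ≤ R := by
    rintro _ ⟨σ, hσ, rfl⟩
    exact ⟨mem_sup_right (mem_map_of_mem _ hσ), MonoidHom.mem_ker.2 (det_permHom_of_even F (by simp) σ)⟩
  have hbase : (funs Q₀).map (blkHom F (κ := Fin 2) (o := Fin m)) ≤ R := by
    rintro _ ⟨f, hf, rfl⟩
    refine ⟨mem_sup_left (mem_map_of_mem _ (mem_funs.2 fun i => (mem_funs.1 hf i).1)), MonoidHom.mem_ker.2 ?_⟩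
    rw [det_blkHom]
    exact Finset.prod_eq_one fun i _ => MonoidHom.mem_ker.1 (mem_funs.1 hf i).2
  refine sqDer_of_mem ?_
  rintro x ⟨hxW, hxN⟩
  obtain ⟨f, hf, σ, hσ, rfl⟩ := (setup F).mem_wr_iff.1 hxW
  set g : Fin m → GL (Fin 2) F := fun k => if GeneralLinearGroup.det (f k) = 1 then 1 else r with hg
  have hg2 : g ^ 2 = 1 := funext fun k => by
    simp only [hg, Pi.pow_apply, Pi.one_apply]
    split_ifs <;> simp [hr2]
  have hf0 : f * g ∈ funs Q₀ := mem_funs.2 fun k => by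
    have hfk := mem_funs.1 hf k
    simp only [Pi.mul_apply, hg]
    split_ifs with h
    · exact ⟨by rw [mul_one]; exact hfk, MonoidHom.mem_ker.2 (by rw [mul_one, h])⟩
    · refine ⟨mul_mem hfk hrQ, MonoidHom.mem_ker.2 ?_⟩
      rw [map_mul, hrd, (hdet _ hfk).resolve_left h]
      simp
  have hA : blkHom F (f * g) ∈ R := hbase (mem_map_of_mem _ hf0)
  have hP : permHom F (κ := Fin 2) σ ∈ R := hperm (mem_map_of_mem _ hσ)
  have hx : blkHom F f * permHom F σ = blkHom F (f * g) * blkHom F g * permHom F σ := by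
    rw [← map_mul, mul_assoc f, ← pow_two, hg2, mul_one]
  have hgR : blkHom F g ∈ R := by
    refine ⟨mem_sup_left (mem_map_of_mem _ (mem_funs.2 fun k => ?_)), ?_⟩
    · simp only [hg]
      split_ifs
      exacts [one_mem _, hrQ]
    · rw [hx] at hxN
      exact (N.mul_mem_cancel_left hA.2).1 ((N.mul_mem_cancel_right hP.2).1 hxN)
  rw [hx]
  refine mul_sq_mem (mul_mem hA hgR) hP (mul_sq_mem hA hgR ?_ ?_) ?_
  · have h1 := mem_map_of_mem (blkHom F (κ := Fin 2) (o := Fin m)) (funs_sq_mem hQK hf0)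
    rw [map_commutator, map_pow] at h1
    exact commutator_mono hbase hbase h1
  · rw [← map_pow, hg2, map_one]
    exact one_mem _
  · have h1 := mem_map_of_mem (permHom F (κ := Fin 2)) (hTs.mem hσ)
    rw [map_commutator, map_pow] at h1
    exact commutator_mono hperm hperm h1

end Cfsg.Agent.SylowSquares
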