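import Cfsg.Agent.Lib.SylowSquares.Two
import Cfsg.Agent.Lib.Perm.TreeSylow

/-!
# Monomial 2-subgroups of `SL_{2^k}(q)`, `q ≡ 1 mod 4`

* `sqDer_monomial`: determinant-one part of `C ≀ T`;
* `exists_wr_SL_one_mod`: Sylow 2-subgroups of the kernel of the determinant on `GL_{2^k}(q)`.
-/

set_option autoImplicit false

namespace Cfsg.Agent.SylowSquares

open Matrix Subgroup
open scoped commutatorElement

variable (F : Type*) [Field F]

/-- diagonal matrices -/
def diag₁ {o : Type*} [Fintype o] [DecidableEq o] : (o → Fˣ) →* GL (Fin 1 × o) F :=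
  (blkHom F (κ := Fin 1)).comp (MonoidHom.compLeft (GeneralLinearGroup.scalar (Fin 1)) o)

theorem setup₁ {o : Type*} [Fintype o] [DecidableEq o] :
    Setup (diag₁ F (o := o)) (permHom F (κ := Fin 1)) :=
  ⟨fun σ f => (setup F).compat σ _, fun f σ h => by
    obtain ⟨h1, h2⟩ := (setup F).indep _ σ h
    exact ⟨funext fun i => GL.scalar_injective ((congrFun h1 i).trans (map_one _).symm), h2⟩⟩

theorem det_diag₁ {o : Type*} [Fintype o] [DecidableEq o] (f : o → Fˣ) :
    GeneralLinearGroup.det (diag₁ F f) = ∏ i, f i := by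
  rw [diag₁, MonoidHom.comp_apply, det_blkHom]
  refine Finset.prod_congr rfl fun i _ => Units.ext ?_
  simp [MonoidHom.compLeft_apply]

variable {o : Type*} [Fintype o] [DecidableEq o]

theorem sqDer_monomial (T : Subgroup (Equiv.Perm o)) (hT : SqDer ↥T)
    (hpair : ∀ a b, ∃ τ ∈ T, τ * τ = 1 ∧ τ a = b) [Nonempty o]
    (C : Subgroup Fˣ) {i : Fˣ} (hiC : i ∈ C) (hi : i ^ 2 = -1) :
    SqDer ↥(wr (diag₁ F) (permHom F (κ := Fin 1)) C T ⊓ GeneralLinearGroup.det.ker) := by
  classical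
  obtain ⟨l₀⟩ := ‹Nonempty o›
  set ι := diag₁ F (o := o) with hι
  set π := permHom F (κ := Fin 1) (o := o) with hπ
  set R := wr ι π C T ⊓ (GeneralLinearGroup.det : GL (Fin 1 × o) F →* Fˣ).ker with hR
  set sgn : Equiv.Perm o →* Fˣ := GeneralLinearGroup.det.comp π with hsgn
  have hm1 : (-1 : Fˣ) ∈ C := hi ▸ pow_mem hiC 2
  have hpm : ∀ σ, sgn σ ^ 2 = 1 := fun σ => by
    refine Units.ext ?_
    rw [Units.val_pow_eq_pow_val]
    show ((GeneralLinearGroup.det (π σ) : Fˣ) : F) ^ 2 = _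
    rw [hπ, coe_det_permHom]
    rcases Int.units_eq_one_or (Equiv.Perm.sign σ) with h | h <;> simp [h]
  have hone : ∀ u : Fˣ, u ^ 2 = 1 → u = 1 ∨ u = -1 := fun u hu => by
    rw [Units.ext_iff, Units.ext_iff]
    simpa [sq_eq_one_iff] using congrArg Units.val hu
  have hpmC : ∀ u : Fˣ, u ^ 2 = 1 → u ∈ C := fun u hu => by
    rcases hone u hu with rfl | rfl
    exacts [one_mem _, hm1]
  have hD : ∀ f ∈ funs C, ∏ x, f x = 1 → ι f ∈ R := fun f hf h1 =>
    ⟨mem_sup_left (mem_map_of_mem _ hf), MonoidHom.mem_ker.2 ((det_diag₁ F f).trans h1)⟩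
  have hsingle : ∀ a : o, ∀ c ∈ C, Pi.mulSingle a c ∈ funs (o := o) C := fun a c hc => mem_funs.2 fun x => by
    rw [Pi.mulSingle_apply]
    split_ifs
    exacts [hc, one_mem _]
  have hlift : ∀ σ ∈ T, ι (Pi.mulSingle l₀ (sgn σ)) * π σ ∈ R := fun σ hσ =>
    ⟨mul_mem (mem_sup_left (mem_map_of_mem _ (hsingle _ _ (hpmC _ (hpm σ))))) (mem_sup_right (mem_map_of_mem _ hσ)),
      MonoidHom.mem_ker.2 (by
        rw [map_mul, det_diag₁, Fintype.prod_pi_mulSingle']
        exact (pow_two _).symm.trans (hpm σ))⟩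
  have hmove : ∀ (σ : Equiv.Perm o) (f : o → Fˣ), π σ * ι f = ι (f ∘ σ.symm) * π σ := fun σ f => by
    rw [← (setup₁ F).compat, inv_mul_cancel_right]
  -- squares of diagonal matrices of determinant one
  have hsq : ∀ f ∈ funs C, ∏ x, f x = 1 → ι f ^ 2 ∈ ⁅R, R⁆ := by
    intro f hf h1
    have h2 : f ^ 2 = ∏ a, (Pi.mulSingle a (f a) * Pi.mulSingle l₀ (f a)⁻¹) ^ 2 := by
      rw [Finset.prod_pow, Finset.prod_mul_distrib, Finset.univ_prod_mulSingle]
      congr 1
      have h3 := map_prod (MonoidHom.mulSingle (fun _ : o => Fˣ) l₀) (fun a => (f a)⁻¹) Finset.univ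
      simp only [MonoidHom.mulSingle_apply, Finset.prod_inv_distrib, h1, inv_one, Pi.mulSingle_one] at h3
      rw [← h3, mul_one]
    rw [← map_pow, ← mem_comap, h2]
    refine prod_mem fun a _ => ?_
    rw [mem_comap]
    rcases eq_or_ne a l₀ with rfl | hne
    · rw [← Pi.mulSingle_mul, mul_inv_cancel, Pi.mulSingle_one, one_pow, map_one]
      exact one_mem _
    · set d : o → Fˣ := Pi.mulSingle a (f a) * Pi.mulSingle l₀ (f a)⁻¹ with hd
      have hdR : ι d ∈ R := hD d (mul_mem (hsingle _ _ (mem_funs.1 hf a)) (hsingle _ _ (inv_mem (mem_funs.1 hf a)))) (by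
        simp [hd, Finset.prod_mul_distrib])
      obtain ⟨τ, hτT, hττ, hτa⟩ := hpair a l₀
      have hflip : (d⁻¹) ∘ τ.symm = d := funext fun x => by
        have hsy : τ.symm x = τ x := by
          rw [Equiv.symm_apply_eq, ← Equiv.Perm.mul_apply, hττ, Equiv.Perm.one_apply]
        have hτl : τ l₀ = a := by rw [← hτa, ← Equiv.Perm.mul_apply, hττ, Equiv.Perm.one_apply]
        simp only [Function.comp_apply, Pi.inv_apply, hsy, hd, Pi.mul_apply]
        rcases eq_or_ne x a with rfl | hxa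
        · simp [hτa, hne, hne.symm]
        rcases eq_or_ne x l₀ with rfl | hxl
        · simp [hτl, hne, hne.symm]
        · have h4 : τ x ≠ a := fun h => hxl (τ.injective (h.trans hτl.symm))
          have h5 : τ x ≠ l₀ := fun h => hxa (τ.injective (h.trans hτa.symm))
          simp [h4, h5, hxa, hxl]
      have h6 := commutator_mem_commutator hdR (hlift τ hτT)
      rwa [commutatorElement_def, _root_.mul_inv_rev, mul_assoc (ι d), mul_assoc _ (π τ), ← map_inv, hmove, hflip,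
        ← mul_assoc (ι (Pi.mulSingle _ _)), ← mul_assoc (ι d), ← mul_assoc, mul_inv_cancel_right, ← map_mul,
        ← map_inv, ← map_mul, mul_comm (Pi.mulSingle _ _) d, ← map_mul, ← mul_assoc d, mul_inv_cancel_right,
        ← pow_two] at h6
  -- diagonal signs of determinant one
  have hsign : ∀ f : o → Fˣ, (∀ x, f x ^ 2 = 1) → ∏ x, f x = 1 → ι f ∈ ⁅R, R⁆ := by
    intro f hf h1
    set g₀ : o → Fˣ := fun x => if f x = 1 then 1 else i with hg₀
    have hg₀C : g₀ ∈ funs C := mem_funs.2 fun x => by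
      simp only [hg₀]
      split_ifs
      exacts [one_mem _, hiC]
    have hg₀2 : g₀ ^ 2 = f := funext fun x => by
      simp only [hg₀, Pi.pow_apply]
      split_ifs with h
      · rw [one_pow, h]
      · rw [hi, ((hone _ (hf x)).resolve_left h)]
    have hP : (∏ x, g₀ x) ^ 2 = 1 := by
      rw [← Finset.prod_pow, ← h1, ← hg₀2]
      rfl
    set g := g₀ * Pi.mulSingle l₀ (∏ x, g₀ x)⁻¹ with hg
    have hg2 : g ^ 2 = f := by
      rw [hg, mul_pow, hg₀2, ← Pi.mulSingle_pow, inv_pow, hP, inv_one, Pi.mulSingle_one, mul_one]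
    have h2 := hsq g (mul_mem hg₀C (hsingle _ _ (inv_mem (Subgroup.prod_mem _ fun x _ => mem_funs.1 hg₀C x))))
      (by simp [hg, Finset.prod_mul_distrib])
    rwa [← map_pow, hg2] at h2
  -- commutators of permutations
  have hmul : ∀ (a b : o → Fˣ) (s t : Equiv.Perm o), ι a * π s * (ι b * π t) = ι (a * b ∘ s.symm) * π (s * t) := by
    intro a b s t
    rw [map_mul, map_mul, mul_assoc, ← mul_assoc (π s), hmove]
    simp only [mul_assoc]
  have hinv : ∀ (a : o → Fˣ) (s : Equiv.Perm o), (ι a * π s)⁻¹ = ι (a⁻¹ ∘ s) * π s⁻¹ := by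
    intro a s
    rw [inv_eq_iff_mul_eq_one, hmul, mul_inv_cancel, map_one, mul_one]
    have : a * (a⁻¹ ∘ s) ∘ s.symm = 1 := funext fun x => by simp
    rw [this, map_one]
  have hcomm : ⁅T, T⁆ ≤ (⁅R, R⁆).comap π := by
    refine commutator_le.2 fun s hs t ht => ?_
    rw [mem_comap]
    have h1 := commutator_mem_commutator (hlift s hs) (hlift t ht)
    rw [commutatorElement_def, hinv, hinv, hmul, hmul, hmul, ← commutatorElement_def] at h1
    refine ((⁅R, R⁆).mul_mem_cancel_left (hsign _ (fun x => ?_) ?_)).1 h1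
    · simp only [Pi.mul_apply, Function.comp_apply, Pi.inv_apply, mul_pow, inv_pow, Pi.mulSingle_apply]
      split_ifs <;> simp [hpm]
    · have h2 := commutator_le_self R h1
      obtain ⟨-, h3⟩ := h2
      replace h3 := MonoidHom.mem_ker.1 h3
      rw [map_mul, det_diag₁] at h3
      have h4 : GeneralLinearGroup.det (π ⁅s, t⁆) = 1 := by
        show sgn ⁅s, t⁆ = 1
        rw [map_commutatorElement, commutatorElement_eq_one_iff_mul_comm, mul_comm]
      rwa [h4, mul_one] at h3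
  -- conclusion
  refine sqDer_of_mem ?_
  rintro x ⟨hxW, hxN⟩
  obtain ⟨f, hf, σ, hσ, rfl⟩ := (setup₁ F).mem_wr_iff.1 hxW
  set e : o → Fˣ := Pi.mulSingle l₀ (sgn σ) with he
  have heC : e ∈ funs C := hsingle _ _ (hpmC _ (hpm σ))
  have h1 : ∏ x, (f * e⁻¹) x = 1 := by
    replace hxN := MonoidHom.mem_ker.1 hxN
    rw [map_mul, det_diag₁] at hxN
    simp only [Pi.mul_apply, Pi.inv_apply, Finset.prod_mul_distrib, Finset.prod_inv_distrib, he,
      Fintype.prod_pi_mulSingle']
    rw [mul_inv_eq_one]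
    calc ∏ x, f x = (∏ x, f x) * (sgn σ * sgn σ) := by rw [← pow_two, hpm, mul_one]
      _ = sgn σ := by rw [← mul_assoc, show (∏ x, f x) * sgn σ = 1 from hxN, one_mul]
  have hx : ι f * π σ = ι (f * e⁻¹) * (ι e * π σ) := by
    rw [← mul_assoc, ← map_mul, inv_mul_cancel_right]
  rw [hx]
  refine mul_sq_mem (hD _ (mul_mem hf (inv_mem heC)) h1) (hlift σ hσ) (hsq _ (mul_mem hf (inv_mem heC)) h1) ?_
  rw [pow_two, hmul]
  refine mul_mem (hsign _ (fun x => ?_) ?_) ?_
  · simp only [Pi.mul_apply, Function.comp_apply, he, mul_pow, Pi.mulSingle_apply]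
    split_ifs <;> simp [hpm]
  · simp only [Pi.mul_apply, Function.comp_apply, Finset.prod_mul_distrib]
    rw [Equiv.prod_comp σ.symm e, he, Fintype.prod_pi_mulSingle', ← pow_two, hpm]
  · rw [← pow_two, ← mem_comap]
    exact hcomm (hT.mem hσ)

theorem exists_pair_tree : ∀ (k : ℕ) (a b : Perm.Leaf k), ∃ τ ∈ Perm.tree k, τ * τ = 1 ∧ τ a = b
  | 0, a, b => ⟨1, one_mem _, one_mul _, Subsingleton.elim (α := Unit) a b⟩
  | k + 1, (x, u), (y, v) => by
    obtain ⟨τ, hτ, h2, huv⟩ := exists_pair_tree k u v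
    refine ⟨Perm.tnode (xor x y) fun _ => τ, Perm.tnode_mem_tree _ fun _ => hτ, ?_, ?_⟩
    · rw [Perm.tnode_mul, Bool.xor_self, h2, Perm.tnode_one]
    · show (xor x (xor x y), τ u) = _
      rw [← Bool.xor_assoc, Bool.xor_self, Bool.false_xor, huv]

theorem factorization_factorial_two_pow (k : ℕ) : (2 ^ k).factorial.factorization 2 = 2 ^ k - 1 := by
  have : Fact (Nat.Prime 2) := ⟨Nat.prime_two⟩
  induction k with
  | zero => simp
  | succ k ih =>
    rw [Nat.factorization_def _ Nat.prime_two] at ih ⊢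
    rw [pow_succ', padicValNat_factorial_mul, ih]
    have := Nat.one_le_two_pow (n := k)
    omega

theorem sqDer_tree (k : ℕ) : SqDer ↥(Perm.tree k) := by
  have : Fact (Nat.Prime 2) := ⟨Nat.prime_two⟩
  obtain ⟨T, hTc, hTs⟩ := exists_sylow_perm (2 ^ k)
  let e : Fin (2 ^ k) ≃ Perm.Leaf k := (Fintype.equivFinOfCardEq (Perm.card_leaf k)).symm
  have hc : Nat.card (Equiv.Perm (Perm.Leaf k)) = (2 ^ k).factorial := by
    rw [Nat.card_perm, Nat.card_eq_fintype_card, Perm.card_leaf]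
  have h := (hTs.map e.permCongrHom.toMonoidHom).sylow (by
    rw [Subgroup.card_map_of_injective e.permCongrHom.injective, hTc, hc])
    (Sylow.ofCard (Perm.tree k) (by rw [Perm.card_tree, hc, factorization_factorial_two_pow]))
  rwa [Sylow.coe_ofCard] at h

theorem exists_wr_SL_one_mod [Fintype F] (hq : Fintype.card F % 4 = 1) (k : ℕ) :
    ∃ R : Subgroup (GL (Fin 1 × Perm.Leaf k) F), R ≤ GeneralLinearGroup.det.ker ∧
      Nat.card ↥R =
        2 ^ (Nat.card ↥(GeneralLinearGroup.det : GL (Fin 1 × Perm.Leaf k) F →* Fˣ).ker).factorization 2 ∧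
      SqDer ↥R := by
  have : Fact (Nat.Prime 2) := ⟨Nat.prime_two⟩
  obtain ⟨C⟩ : Nonempty (Sylow 2 Fˣ) := inferInstance
  obtain ⟨x, hx⟩ : IsSquare (-1 : F) := FiniteField.isSquare_neg_one_iff.2 (by omega)
  have hx0 : x ≠ 0 := fun h => by simp [h] at hx
  set i : Fˣ := Units.mk0 x hx0 with hi_def
  have hi : i ^ 2 = -1 := Units.ext (by simp [hi_def, pow_two, ← hx])
  have hi4 : i ^ 2 ^ 2 = 1 := by
    rw [show (2 ^ 2 : ℕ) = 2 * 2 from rfl, pow_mul, hi]
    simp
  have hle : IsPGroup 2 (Subgroup.zpowers i) := by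
    obtain ⟨j, -, hj⟩ := (Nat.dvd_prime_pow Nat.prime_two).1 (orderOf_dvd_of_pow_eq_one hi4)
    exact IsPGroup.of_card (n := j) (by rw [Nat.card_zpowers, hj])
  have hiC : i ∈ (C : Subgroup Fˣ) := hle.le_sylow_of_normal C (Subgroup.mem_zpowers i)
  refine ⟨_, inf_le_right, card_inf_normal (GeneralLinearGroup.det : GL (Fin 1 × Perm.Leaf k) F →* Fˣ).ker ?_,
    sqDer_monomial F (Perm.tree k) (sqDer_tree k) (exists_pair_tree k) (C : Subgroup Fˣ) hiC hi⟩
  rw [(setup₁ F).card_wr, C.card_eq_multiplicity, GL.card_units_field, Perm.card_tree, Perm.card_leaf, ← pow_mul,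
    ← pow_add, card_GL_congr F (2 ^ k) (by simp [Perm.card_leaf]), factorization_card_GL_one_mod F hq,
    factorization_factorial_two_pow, mul_comm]

end Cfsg.Agent.SylowSquares
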