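import Cfsg.Agent.Lib.SylowSquares.Symplectic
import Cfsg.Agent.Lib.SylowSquares.Linear
import Cfsg.Agent.Lib.SylowSquares.Split

/-!
# Normal 2-rank of the Sylow 2-subgroups of `GL_n(q)`, `q` odd
-/

set_option autoImplicit false

namespace Cfsg.Agent.SylowSquares

open Matrix Subgroup
open scoped MatrixGroups

universe u v

theorem HasNormalRank.prod {A : Type u} {C : Type v} [Group A] [Group C] [Finite A] [Finite C] {r : ℕ}
    (h : HasNormalRank A r) (hC : ∀ c : C, c * c = 1) (hC2 : Nat.card C = 2) : HasNormalRank (A × C) (r + 1) := by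
  obtain ⟨⟨E, hEn, hEe, hEc⟩, hub⟩ := h
  refine ⟨⟨E.prod ⊤, ?_, ?_, ?_⟩, fun E' hn he => ?_⟩
  · exact Subgroup.prod_normal E ⊤
  · exact isElementaryAbelian_of_sq fun x hx =>
      Prod.ext (mul_self_of_isElementaryAbelian hEe _ hx.1) (hC _)
  · rw [Nat.card_congr (E.prodEquiv ⊤).toEquiv, Nat.card_prod, Subgroup.card_top, hC2, pow_succ]
    exact Nat.mul_le_mul_right _ hEc
  · have h1 : (E'.map (MonoidHom.fst A C)).Normal := hn.map _ fun a => ⟨(a, 1), rfl⟩
    have h2 := hub _ h1 (isElementaryAbelian_of_sq (by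
      rintro _ ⟨x, hx, rfl⟩
      rw [← map_mul, mul_self_of_isElementaryAbelian he x hx, map_one]))
    calc Nat.card ↥E' ≤ Nat.card ↥((E'.map (MonoidHom.fst A C)).prod (⊤ : Subgroup C)) :=
          Subgroup.card_le_of_le fun x hx => ⟨⟨x, hx, rfl⟩, Subgroup.mem_top _⟩
      _ ≤ 2 ^ (r + 1) := by
          rw [Nat.card_congr ((E'.map (MonoidHom.fst A C)).prodEquiv ⊤).toEquiv, Nat.card_prod,
            Subgroup.card_top, hC2, pow_succ]
          exact Nat.mul_le_mul_right _ h2

variable {F : Type*} [Field F] [Fintype F]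

/-- Transport along a re-indexing of the coordinates. -/
theorem hasNormalRank_GL_of_reindex {ι κ : Type*} [Fintype ι] [DecidableEq ι] [Fintype κ] [DecidableEq κ]
    (e : ι ≃ κ) {R : Subgroup (GL ι F)} (hR : Nat.card ↥R = 2 ^ (Nat.card (GL ι F)).factorization 2) {r : ℕ}
    (h : HasNormalRank ↥R r) (P : Sylow 2 (GL κ F)) : HasNormalRank ↥(P : Subgroup (GL κ F)) r := by
  let Φ : GL ι F ≃* GL κ F := Units.mapEquiv (reindexAlgEquiv F F e).toMulEquiv
  refine HasNormalRank.sylow (R := R.map Φ.toMonoidHom) ?_ (h.congr (R.equivMapOfInjective _ Φ.injective)) P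
  rw [show Nat.card ↥(R.map Φ.toMonoidHom) = Nat.card ↥R from Subgroup.card_map_of_injective Φ.injective, hR,
    Nat.card_congr Φ.toEquiv]

omit [Fintype F] in
theorem neg_one_GL_ne {κ : Type*} [Fintype κ] [DecidableEq κ] [Nonempty κ] (h2 : (2 : F) ≠ 0) :
    (-1 : GL κ F) ≠ 1 := fun e => by
  obtain ⟨k⟩ := ‹Nonempty κ›
  have := congrArg (fun g : GL κ F => (g : Matrix κ κ F) k k) e
  simp at this
  exact h2 (by linear_combination -this)

theorem exists_hasNormalRank_GL_one_mod (hq : Fintype.card F % 4 = 1) (n : ℕ) :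
    ∃ R : Subgroup (GL (Fin 1 × Fin n) F),
      Nat.card ↥R = 2 ^ (Nat.card (GL (Fin 1 × Fin n) F)).factorization 2 ∧ HasNormalRank ↥R n := by
  have : Fact (Nat.Prime 2) := ⟨Nat.prime_two⟩
  have h2 := two_ne_zero_of_odd_card (F := F) (Nat.odd_iff.2 (by omega))
  obtain ⟨C⟩ : Nonempty (Sylow 2 Fˣ) := inferInstance
  obtain ⟨T⟩ : Nonempty (Sylow 2 (Equiv.Perm (Fin n))) := inferInstance
  refine ⟨wr (diag₁ F) (permHom F (κ := Fin 1)) (C : Subgroup Fˣ) T, ?_, ?_⟩
  · rw [(setup₁ F).card_wr, C.card_eq_multiplicity, GL.card_units_field, T.card_eq_multiplicity, Nat.card_perm,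
      Nat.card_fin, Fintype.card_fin, ← pow_mul, ← pow_add, card_GL_congr F n (by simp),
      factorization_card_GL_one_mod F hq, mul_comm]
  · obtain ⟨x, hx⟩ : IsSquare (-1 : F) := FiniteField.isSquare_neg_one_iff.2 (by omega)
    have hx0 : x ≠ 0 := fun h => by simp [h] at hx
    set i : Fˣ := Units.mk0 x hx0 with hi_def
    have hi : i * i = -1 := Units.ext (by simp [hi_def, ← hx])
    have hone : (-1 : Fˣ) ≠ 1 := fun e => h2 (by
      have := congrArg Units.val e
      simp at this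
      linear_combination -this)
    have hmem : ∀ u : Fˣ, u ^ 2 ^ 2 = 1 → u ∈ (C : Subgroup Fˣ) := fun u hu => by
      obtain ⟨j, -, hj⟩ := (Nat.dvd_prime_pow Nat.prime_two).1 (orderOf_dvd_of_pow_eq_one hu)
      exact (IsPGroup.of_card (p := 2) (n := j) (by rw [Nat.card_zpowers, hj])).le_sylow_of_normal C
        (Subgroup.mem_zpowers u)
    have hiC : i ∈ (C : Subgroup Fˣ) := hmem i (by
      rw [show (2 ^ 2 : ℕ) = 2 * 2 from rfl, pow_mul, pow_two i, hi]; simp)
    have := (setup₁ F (o := Fin n)).hasNormalRank_wr (T := (T : Subgroup (Equiv.Perm (Fin n))))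
      ⟨i, hiC, hi ▸ hone⟩ (hi ▸ mul_mem hiC hiC) (orderOf_eq_prime (by simp) hone)
      (fun a _ => by simp) (fun E _ _ hs => by
        refine (Nat.card_mono (t := ({1, -1} : Set Fˣ)) (Set.toFinite _) fun g hg => ?_).trans ?_
        · have h1 := congrArg Units.val (hs g hg)
          rw [Units.val_mul, Units.val_one, mul_self_eq_one_iff] at h1
          rcases h1 with h | h
          · exact Or.inl (Units.ext h)
          · exact Or.inr (Units.ext (by simp [h]))
        · rw [Nat.card_coe_set_eq]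
          exact (Set.ncard_insert_le _ _).trans (by simp))
    rwa [Fintype.card_fin] at this

/-- An element of determinant one commuting with a reflection-type involution is trivial up to sign. -/
theorem mul_self_eq_one_of_commute (hq : Fintype.card F % 4 = 3) {e h : GL (Fin 2) F} (he : e * e = 1)
    (hed : GeneralLinearGroup.det e = -1) (hc : h * e = e * h) {k : ℕ} (hk : h ^ 2 ^ k = 1) : h * h = 1 := by
  have h2 := two_ne_zero_of_odd_card (F := F) (Nat.odd_iff.2 (by omega))
  have hE : (e : Matrix (Fin 2) (Fin 2) F) * e = 1 := by rw [← Units.val_mul, he, Units.val_one]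
  have hd : Matrix.det (e : Matrix (Fin 2) (Fin 2) F) = -1 := by
    rw [← GeneralLinearGroup.val_det_apply, hed]; simp
  have hC : (h : Matrix (Fin 2) (Fin 2) F) * e = e * h := by rw [← Units.val_mul, hc, Units.val_mul]
  have hK : (h : Matrix (Fin 2) (Fin 2) F) ^ 2 ^ k = 1 := by rw [← Units.val_pow_eq_pow_val, hk, Units.val_one]
  apply Units.ext
  rw [Units.val_mul, Units.val_one]
  generalize (h : Matrix (Fin 2) (Fin 2) F) = H at hC hK ⊢
  generalize (e : Matrix (Fin 2) (Fin 2) F) = E at hE hd hC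
  rw [det_fin_two] at hd
  have eE := fun i j => congrFun (congrFun hE i) j
  have eC := fun i j => congrFun (congrFun hC i) j
  simp only [Matrix.mul_apply, Fin.sum_univ_two] at eE eC
  have e00 := eE 0 0
  have e01 := eE 0 1
  have c00 := eC 0 0
  have c01 := eC 0 1
  have c10 := eC 1 0
  simp only [Matrix.one_apply_eq, Matrix.one_apply_ne (show (0 : Fin 2) ≠ 1 by decide)] at e00 e01
  have ht : E 1 1 = -E 0 0 := by
    by_contra hne
    have hne' : E 0 0 + E 1 1 ≠ 0 := fun h => hne (by linear_combination h)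
    have ha : E 0 0 = 0 := (mul_eq_zero.1 (show E 0 0 * (E 0 0 + E 1 1) = 0 by
      linear_combination e00 + hd)).resolve_right hne'
    have hb : E 0 1 = 0 := (mul_eq_zero.1 (show E 0 1 * (E 0 0 + E 1 1) = 0 by
      linear_combination e01)).resolve_right hne'
    rw [ha, hb] at e00
    simp at e00
  rw [ht] at c01 c10
  set r := (H 0 0 + H 1 1) / 2 with hr
  set s := E 0 0 * (H 0 0 - H 1 1) / 2 + E 1 0 * H 0 1 with hs
  have hH : H = r • (1 : Matrix (Fin 2) (Fin 2) F) + s • E := by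
    ext i j
    fin_cases i <;> fin_cases j <;>
    simp only [Matrix.add_apply, Matrix.smul_apply, smul_eq_mul, Fin.zero_eta, Fin.mk_one, Matrix.one_apply_eq,
      Matrix.one_apply_ne (show (0 : Fin 2) ≠ 1 by decide), Matrix.one_apply_ne (show (1 : Fin 2) ≠ 0 by decide),
      mul_one, mul_zero, zero_add, hr, hs, ht] <;> field_simp
    · linear_combination -(H 0 0 - H 1 1) * e00 + E 1 0 * c01
    · linear_combination -2 * H 0 1 * e00 - E 0 0 * c01
    · linear_combination -2 * H 1 0 * e00 + E 0 0 * c10 - 2 * E 1 0 * c00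
    · linear_combination (H 0 0 - H 1 1) * e00 - E 1 0 * c01
  set P := (2 : F)⁻¹ • ((1 : Matrix (Fin 2) (Fin 2) F) + E) with hP
  set M := (2 : F)⁻¹ • ((1 : Matrix (Fin 2) (Fin 2) F) - E) with hM
  have hPP : P * P = P := by
    have : ((1 : Matrix (Fin 2) (Fin 2) F) + E) * (1 + E) = (2 : F) • (1 + E) := by
      rw [add_mul, mul_add, mul_add, hE, one_mul, one_mul, mul_one]
      module
    rw [hP, smul_mul_smul_comm, this, ← mul_smul, inv_mul_cancel_right₀ h2]
  have hMM : M * M = M := by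
    have : ((1 : Matrix (Fin 2) (Fin 2) F) - E) * (1 - E) = (2 : F) • (1 - E) := by
      rw [sub_mul, mul_sub, mul_sub, hE, one_mul, one_mul, mul_one]
      module
    rw [hM, smul_mul_smul_comm, this, ← mul_smul, inv_mul_cancel_right₀ h2]
  have hPM : P * M = 0 := by
    rw [hP, hM, smul_mul_smul_comm, add_mul, mul_sub, mul_sub, hE, one_mul, one_mul, mul_one]
    simp
  have hMP : M * P = 0 := by
    rw [hP, hM, smul_mul_smul_comm, sub_mul, mul_add, mul_add, hE, one_mul, one_mul, mul_one]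
    simp [add_comm]
  have hsum : P + M = 1 := by
    rw [hP, hM, ← smul_add, add_add_sub_cancel, ← two_smul F, ← mul_smul, inv_mul_cancel₀ h2, one_smul]
  set u := r + s
  set v := r - s
  have hH' : H = u • P + v • M := by
    rw [hH, hP, hM]
    match_scalars <;> field_simp <;> ring
  clear_value P M
  have hpow : ∀ N : ℕ, H ^ N = u ^ N • P + v ^ N • M := by
    intro N
    induction N with
    | zero => simp [hsum]
    | succ N ih =>
      rw [pow_succ, ih, hH', add_mul, mul_add, mul_add, smul_mul_smul_comm, smul_mul_smul_comm,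
        smul_mul_smul_comm, smul_mul_smul_comm, hPP, hMM, hPM, hMP, ← pow_succ, ← pow_succ]
      simp
  have hgcd : Nat.gcd (2 ^ k) (Fintype.card F - 1) ∣ 2 := by
    obtain ⟨j, -, hj⟩ := (Nat.dvd_prime_pow Nat.prime_two).1 (Nat.gcd_dvd_left (2 ^ k) (Fintype.card F - 1))
    rw [hj]
    have h1 : 2 ^ j ∣ Fintype.card F - 1 := hj ▸ Nat.gcd_dvd_right _ _
    have hj1 : j ≤ 1 := by
      by_contra h
      have := (pow_dvd_pow 2 (show 2 ≤ j by omega)).trans h1
      omega
    calc 2 ^ j ∣ 2 ^ 1 := pow_dvd_pow 2 hj1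
      _ = 2 := pow_one 2
  have hsq : ∀ w : F, w ^ 2 ^ k = 1 → w ^ 2 = 1 := by
    intro w hw
    have hw0 : w ≠ 0 := fun h => by rw [h, zero_pow (Nat.two_pow_pos k).ne'] at hw; exact zero_ne_one hw
    obtain ⟨c, hc⟩ := hgcd
    conv_lhs => rw [hc, pow_mul, pow_gcd_eq_one.2 ⟨hw, FiniteField.pow_card_sub_one_eq_one w hw0⟩, one_pow]
  have h1 := hpow (2 ^ k)
  rw [hK] at h1
  have hP0 : P ≠ 0 := fun h0 => by
    have hb := congrFun (congrFun h0 0) 1
    have ha := congrFun (congrFun h0 0) 0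
    have hd' := congrFun (congrFun h0 1) 1
    simp [hP, h2] at hb ha hd'
    rw [ht] at hd'
    exact (one_ne_zero : (1 : F) ≠ 0) (by
      rw [← inv_mul_cancel₀ h2]; linear_combination ha + hd')
  have hM0 : M ≠ 0 := fun h0 => by
    have ha := congrFun (congrFun h0 0) 0
    have hd' := congrFun (congrFun h0 1) 1
    simp [hM, h2, sub_eq_zero] at ha hd'
    rw [ht] at hd'
    exact h2 (by linear_combination ha + hd')
  have hu : u ^ 2 ^ k = 1 := by
    have := congrArg (P * ·) h1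
    simp only [mul_one, mul_add, Matrix.mul_smul, hPP, hPM, smul_zero, add_zero] at this
    exact smul_left_injective F hP0 (by simpa using this.symm)
  have hv : v ^ 2 ^ k = 1 := by
    have := congrArg (M * ·) h1
    simp only [mul_one, mul_add, Matrix.mul_smul, hMM, hMP, smul_zero, zero_add] at this
    exact smul_left_injective F hM0 (by simpa using this.symm)
  rw [← pow_two, hpow 2, hsq u hu, hsq v hv, one_smul, one_smul, hsum]

theorem normal_card_le_two (hq : Fintype.card F % 4 = 3) {Q : Subgroup (GL (Fin 2) F)}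
    (hQ : Nat.card ↥Q = 2 ^ (Nat.card (GL (Fin 2) F)).factorization 2)
    (hdet : ∀ g ∈ Q, GeneralLinearGroup.det g = 1 ∨ GeneralLinearGroup.det g = -1) :
    (∃ a ∈ Q, a * a ≠ 1) ∧ (-1 : GL (Fin 2) F) ∈ Q ∧
      ∀ E : Subgroup (GL (Fin 2) F), E ≤ Q → (∀ w ∈ Q, ∀ x ∈ E, w * x * w⁻¹ ∈ E) → (∀ x ∈ E, x * x = 1) →
        Nat.card ↥E ≤ 2 := by
  have : Fact (Nat.Prime 2) := ⟨Nat.prime_two⟩
  have hodd : Odd (Fintype.card F) := Nat.odd_iff.2 (by omega)
  have h2 := two_ne_zero_of_odd_card hodd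
  set tG : SL(2, F) →* GL (Fin 2) F := SpecialLinearGroup.toGL
  have htinj : Function.Injective tG := fun a b e => Subtype.ext (congrArg Units.val e)
  set N := (GeneralLinearGroup.det : GL (Fin 2) F →* Fˣ).ker
  have hrange : tG.range = N := by
    ext g
    constructor
    · rintro ⟨a, rfl⟩
      exact MonoidHom.mem_ker.2 (Units.ext (by simp [tG]))
    · intro hg
      refine ⟨⟨g, ?_⟩, Units.ext rfl⟩
      have := congrArg Units.val (MonoidHom.mem_ker.1 hg)
      simpa using this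
  have hK : Nat.card ↥((Q ⊓ N).comap tG) = 2 ^ (Nat.card SL(2, F)).factorization 2 := by
    rw [← Subgroup.card_map_of_injective htinj, Subgroup.map_comap_eq_self (hrange ▸ inf_le_right),
      card_inf_normal N hQ, ← hrange, Nat.card_congr (MonoidHom.ofInjective htinj).toEquiv.symm]
  let K : Sylow 2 SL(2, F) := Sylow.ofCard _ hK
  have hKQ : ∀ a ∈ (K : Subgroup SL(2, F)), tG a ∈ Q := fun a ha => by
    rw [Sylow.coe_ofCard] at ha
    exact ha.1
  have hneg : tG (-1) = -1 := Units.ext (by simp [tG])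
  have hm1 : (-1 : GL (Fin 2) F) ∈ Q := hneg ▸ hKQ _ (neg_one_mem_sylow_SL2 hodd K)
  refine ⟨?_, hm1, fun E hE hn hs => ?_⟩
  · obtain ⟨a, ha, ha2⟩ := exists_sq_ne_one_sylow_SL2 hodd K
    exact ⟨tG a, hKQ a ha, fun e => ha2 (htinj (by rw [map_mul, e, map_one]))⟩
  have hker : ∀ x ∈ E, GeneralLinearGroup.det x = 1 → x = 1 ∨ x = -1 := fun x hx hd => by
    obtain ⟨a, rfl⟩ : x ∈ tG.range := hrange ▸ MonoidHom.mem_ker.2 hd
    rcases eq_neg_one_of_sq h2 (htinj (by rw [map_mul, hs _ hx, map_one] : tG (a * a) = tG 1)) with h | h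
    · exact Or.inl (by rw [h, map_one])
    · exact Or.inr (by rw [h, hneg])
  by_cases hall : ∀ x ∈ E, GeneralLinearGroup.det x = 1
  · refine (Nat.card_mono (t := ({1, -1} : Set (GL (Fin 2) F))) (Set.toFinite _) fun g hg => ?_).trans ?_
    · exact hker g hg (hall g hg)
    · rw [Nat.card_coe_set_eq]
      exact (Set.ncard_insert_le _ _).trans (by simp)
  exfalso
  push Not at hall
  obtain ⟨e, heE, hed⟩ := hall
  have hed' := (hdet e (hE heE)).resolve_left hed
  have hee := hs e heE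
  have hsgn : ∀ a ∈ (K : Subgroup SL(2, F)), tG a * e = e * tG a ∨ tG a * e = -(e * tG a) := by
    intro a ha
    have h1 : tG a * e * (tG a)⁻¹ * e ∈ E := mul_mem (hn _ (hKQ a ha) _ heE) heE
    have hd1 : GeneralLinearGroup.det (tG a) = 1 := MonoidHom.mem_ker.1 (hrange.le (⟨a, rfl⟩ : tG a ∈ tG.range))
    have h3 : tG a * e * (tG a)⁻¹ * e * (e * tG a) = tG a * e := by
      rw [mul_assoc (tG a * e * (tG a)⁻¹), ← mul_assoc e e, hee]
      group
    rcases hker _ h1 (by simp [hd1, hed']) with h | h <;> rw [h] at h3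
    · exact Or.inl (by rw [← h3, one_mul])
    · exact Or.inr (by rw [← h3]; simp)
  have hpm : ∀ a ∈ (K : Subgroup SL(2, F)), tG a * e = e * tG a → a = 1 ∨ a = -1 := by
    intro a ha hc
    obtain ⟨k, hk⟩ := K.isPGroup' ⟨a, ha⟩
    exact eq_neg_one_of_sq h2 (htinj (by
      rw [map_mul, map_one]
      exact mul_self_eq_one_of_commute hq hee hed' hc (k := k)
        (by rw [← map_pow, show a ^ 2 ^ k = 1 from congrArg Subtype.val hk, map_one])))
  obtain ⟨k, hk1, hk, -⟩ := PSL2.sylow_two_quaternion h2 K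
  have h8 : 2 ^ 3 ≤ Nat.card K := hk ▸ Nat.pow_le_pow_right two_pos (by omega)
  obtain ⟨b, hb⟩ : ∃ b : SL(2, F), ∀ a ∈ (K : Subgroup SL(2, F)), a ∈ ({1, -1, b, -b} : Set SL(2, F)) := by
    by_cases hex : ∃ b ∈ (K : Subgroup SL(2, F)), tG b * e = -(e * tG b)
    · obtain ⟨b, hb, hbe⟩ := hex
      refine ⟨b, fun a ha => ?_⟩
      rcases hsgn a ha with h | h
      · rcases hpm a ha h with h' | h' <;> simp [h']
      · have hc : tG (a * b⁻¹) * e = e * tG (a * b⁻¹) := by
          have hb' : (tG b)⁻¹ * e = -(e * (tG b)⁻¹) := by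
            rw [inv_mul_eq_iff_eq_mul, mul_neg, ← mul_assoc, hbe]
            simp [mul_assoc]
          rw [map_mul, map_inv, mul_assoc, hb', mul_neg, ← mul_assoc, h]
          simp [mul_assoc]
        rcases hpm _ (mul_mem ha (inv_mem hb)) hc with h' | h'
        · simp [mul_inv_eq_one.1 h']
        · simp [show a = -b by rw [← inv_mul_cancel_right a b, h']; simp]
    · push Not at hex
      refine ⟨1, fun a ha => ?_⟩
      rcases hpm a ha ((hsgn a ha).resolve_right (hex a ha)) with h' | h' <;> simp [h']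
  have hle : Nat.card K ≤ 4 := by
    refine (Nat.card_mono (t := ({1, -1, b, -b} : Set SL(2, F))) (Set.toFinite _) hb).trans ?_
    rw [Nat.card_coe_set_eq]
    refine (Set.ncard_insert_le _ _).trans (Nat.succ_le_succ ?_)
    refine (Set.ncard_insert_le _ _).trans (Nat.succ_le_succ ?_)
    refine (Set.ncard_insert_le _ _).trans ?_
    simp
  omega

theorem exists_hasNormalRank_GL_three_mod (hq : Fintype.card F % 4 = 3) (m : ℕ) :
    ∃ R : Subgroup (GL (Fin 2 × Fin m) F),
      Nat.card ↥R = 2 ^ (Nat.card (GL (Fin 2 × Fin m) F)).factorization 2 ∧ HasNormalRank ↥R m := by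
  obtain ⟨Q, T, -, -, ⟨r, -, -, -, hdet⟩, hQc, hW⟩ := exists_wr_GL_three_mod F hq m
  obtain ⟨ha, hm1, h2⟩ := normal_card_le_two hq hQc hdet
  have h := (setup F (κ := Fin 2) (o := Fin m)).hasNormalRank_wr (T := T) ha hm1
    (orderOf_eq_prime (by simp) (neg_one_GL_ne (two_ne_zero_of_odd_card (Nat.odd_iff.2 (by omega)))))
    (fun a _ => by simp) h2
  rw [Fintype.card_fin] at h
  exact ⟨_, hW, h⟩

theorem exists_hasNormalRank_GL_three_mod_odd (hq : Fintype.card F % 4 = 3) (m : ℕ) :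
    ∃ R : Subgroup (GL ((Fin 2 × Fin m) ⊕ Fin 1) F),
      Nat.card ↥R = 2 ^ (Nat.card (GL ((Fin 2 × Fin m) ⊕ Fin 1) F)).factorization 2 ∧
        HasNormalRank ↥R (m + 1) := by
  have : Fact (Nat.Prime 2) := ⟨Nat.prime_two⟩
  have hodd : Odd (Fintype.card F) := Nat.odd_iff.2 (by omega)
  have h2 := two_ne_zero_of_odd_card hodd
  obtain ⟨W, hW, hWr⟩ := exists_hasNormalRank_GL_three_mod (F := F) hq m
  let bd : Matrix (Fin 2 × Fin m) (Fin 2 × Fin m) F × Matrix (Fin 1) (Fin 1) F →*
      Matrix ((Fin 2 × Fin m) ⊕ Fin 1) ((Fin 2 × Fin m) ⊕ Fin 1) F :=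
    { toFun := fun p => fromBlocks p.1 0 0 p.2
      map_one' := fromBlocks_one
      map_mul' := fun p q => by simp [fromBlocks_multiply] }
  let Φ : GL (Fin 2 × Fin m) F × GL (Fin 1) F →* GL ((Fin 2 × Fin m) ⊕ Fin 1) F :=
    (Units.map bd).comp MulEquiv.prodUnits.symm.toMonoidHom
  have hΦ : Function.Injective Φ := fun p q e => by
    have h1 : fromBlocks ((p.1 : GL (Fin 2 × Fin m) F) : Matrix (Fin 2 × Fin m) (Fin 2 × Fin m) F) 0 0
        ((p.2 : GL (Fin 1) F) : Matrix (Fin 1) (Fin 1) F) =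
        fromBlocks ((q.1 : GL (Fin 2 × Fin m) F) : Matrix (Fin 2 × Fin m) (Fin 2 × Fin m) F) 0 0
        ((q.2 : GL (Fin 1) F) : Matrix (Fin 1) (Fin 1) F) := congrArg Units.val e
    obtain ⟨h11, -, -, h22⟩ := fromBlocks_inj.1 h1
    exact Prod.ext (Units.ext h11) (Units.ext h22)
  set z : GL (Fin 1) F := -1 with hz
  have hzo : orderOf z = 2 := orderOf_eq_prime (by simp [hz]) (neg_one_GL_ne h2)
  have hC2 : Nat.card ↥(zpowers z) = 2 := by rw [Nat.card_zpowers, hzo]
  refine ⟨(W.prod (zpowers z)).map Φ, ?_, ?_⟩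
  · rw [Subgroup.card_map_of_injective hΦ, Nat.card_congr (W.prodEquiv _).toEquiv, Nat.card_prod, hW, hC2,
      ← pow_succ, card_GL_congr F (ι := Fin 2 × Fin m) (2 * m) (by simp),
      card_GL_congr F (ι := (Fin 2 × Fin m) ⊕ Fin 1) (2 * m + 1) (by simp), factorization_card_GL F hodd,
      factorization_card_GL F hodd, Finset.sum_range_succ _ (2 * m),
      factorization_pow_sub_one_odd hodd (by omega) (odd_two_mul_add_one m)]
    congr 2
    obtain ⟨c, hc⟩ : ∃ c, Fintype.card F - 1 = 2 * (2 * c + 1) := ⟨(Fintype.card F - 1) / 4, by omega⟩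
    rw [hc, factorization_two_mul_odd two_ne_zero (odd_two_mul_add_one c), Nat.prime_two.factorization_self]
  · refine HasNormalRank.congr ((W.prod (zpowers z)).equivMapOfInjective Φ hΦ)
      (HasNormalRank.congr (W.prodEquiv (zpowers z)).symm (hWr.prod (fun c => ?_) hC2))
    rw [← pow_two]
    exact orderOf_dvd_iff_pow_eq_one.1 (hC2 ▸ orderOf_dvd_natCard c)

theorem hasNormalRank_GL (hF : Odd (Fintype.card F)) (n : ℕ) (P : Sylow 2 (GL (Fin n) F)) :
    (Fintype.card F % 4 = 1 → HasNormalRank ↥(P : Subgroup (GL (Fin n) F)) n) ∧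
      (Fintype.card F % 4 = 3 → HasNormalRank ↥(P : Subgroup (GL (Fin n) F)) ((n + 1) / 2)) := by
  refine ⟨fun hq => ?_, fun hq => ?_⟩
  · obtain ⟨R, hR, hr⟩ := exists_hasNormalRank_GL_one_mod (F := F) hq n
    exact hasNormalRank_GL_of_reindex (Fintype.equivFinOfCardEq (by simp)) hR hr P
  · rcases Nat.even_or_odd n with ⟨m, rfl⟩ | ⟨m, rfl⟩
    · rw [show (m + m + 1) / 2 = m by omega]
      obtain ⟨R, hR, hr⟩ := exists_hasNormalRank_GL_three_mod (F := F) hq m
      exact hasNormalRank_GL_of_reindex (Fintype.equivFinOfCardEq (by simp; omega)) hR hr P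
    · rw [show (2 * m + 1 + 1) / 2 = m + 1 by omega]
      obtain ⟨R, hR, hr⟩ := exists_hasNormalRank_GL_three_mod_odd (F := F) hq m
      exact hasNormalRank_GL_of_reindex (Fintype.equivFinOfCardEq (by simp)) hR hr P

end Cfsg.Agent.SylowSquares
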