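import Cfsg.Prelude.Def_Transfer
import Cfsg.Agent.Lib.SylowSquares.DerivedWreath

/-!
# Normal elementary abelian 2-subgroups of `Q ≀ T`

* `HasNormalRank H r`: the largest normal elementary abelian 2-subgroup of `H` has order `2^r`;
* `Setup.normal_le_base`, `Setup.hasNormalRank_wr`.
-/

set_option autoImplicit false

namespace Cfsg.Agent.SylowSquares

open Subgroup

universe u v w

/-- The largest normal elementary abelian 2-subgroup has order `2^r`. -/
def HasNormalRank (H : Type u) [Group H] (r : ℕ) : Prop :=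
  (∃ E : Subgroup H, E.Normal ∧ Cfsg.IsElementaryAbelian 2 E ∧ 2 ^ r ≤ Nat.card ↥E) ∧
    ∀ E : Subgroup H, E.Normal → Cfsg.IsElementaryAbelian 2 E → Nat.card ↥E ≤ 2 ^ r

theorem isElementaryAbelian_of_sq {G : Type u} [Group G] {E : Subgroup G} (h : ∀ x ∈ E, x * x = 1) :
    Cfsg.IsElementaryAbelian 2 E := by
  refine ⟨⟨⟨fun a' b' => Subtype.ext ?_⟩⟩, fun a ha => by rw [pow_two]; exact h a ha⟩
  obtain ⟨a, ha⟩ := a'
  obtain ⟨b, hb⟩ := b'
  have h1 := h (a * b) (mul_mem ha hb)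
  show a * b = b * a
  calc a * b = a * ((a * b) * (a * b)) * b := by rw [h1, mul_one]
    _ = (a * a) * (b * a) * (b * b) := by group
    _ = b * a := by rw [h a ha, h b hb, one_mul, mul_one]

theorem mul_self_of_isElementaryAbelian {G : Type u} [Group G] {E : Subgroup G}
    (h : Cfsg.IsElementaryAbelian 2 E) : ∀ x ∈ E, x * x = 1 := fun x hx => by
  rw [← pow_two]; exact h.2 x hx

theorem HasNormalRank.congr {H : Type u} {K : Type v} [Group H] [Group K] (e : H ≃* K) {r : ℕ}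
    (h : HasNormalRank H r) : HasNormalRank K r := by
  obtain ⟨⟨E, hEn, hEe, hEc⟩, hub⟩ := h
  have hmap : ∀ {A : Type u} {B : Type v} [Group A] [Group B] (f : A ≃* B) (E : Subgroup A),
      E.Normal → (∀ x ∈ E, x * x = 1) → (E.map f.toMonoidHom).Normal ∧
        (∀ y ∈ E.map f.toMonoidHom, y * y = 1) ∧ Nat.card ↥(E.map f.toMonoidHom) = Nat.card ↥E := by
    intro A B _ _ f E hn hs
    refine ⟨hn.map _ f.surjective, ?_, Subgroup.card_map_of_injective f.injective⟩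
    rintro _ ⟨x, hx, rfl⟩
    rw [← map_mul, hs x hx, map_one]
  refine ⟨?_, fun E' hn he => ?_⟩
  · obtain ⟨h1, h2, h3⟩ := hmap e E hEn (mul_self_of_isElementaryAbelian hEe)
    exact ⟨_, h1, isElementaryAbelian_of_sq h2, by rw [h3]; exact hEc⟩
  · have h1 : (E'.comap e.toMonoidHom).Normal := hn.comap _
    have h2 := hub (E'.comap e.toMonoidHom) h1 (isElementaryAbelian_of_sq fun x hx =>
      e.injective (by rw [map_mul, map_one]; exact mul_self_of_isElementaryAbelian he _ hx))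
    rwa [← Nat.card_congr ((e.toEquiv.subtypeEquiv fun x => Iff.rfl : ↥(E'.comap e.toMonoidHom) ≃ ↥E'))]

/-- From subgroups of the ambient group. -/
theorem hasNormalRank_subgroup {G : Type u} [Group G] {W : Subgroup G} {r : ℕ}
    (hlb : ∃ E : Subgroup G, E ≤ W ∧ (∀ w ∈ W, ∀ x ∈ E, w * x * w⁻¹ ∈ E) ∧ (∀ x ∈ E, x * x = 1) ∧
      2 ^ r ≤ Nat.card ↥E)
    (hub : ∀ E : Subgroup G, E ≤ W → (∀ w ∈ W, ∀ x ∈ E, w * x * w⁻¹ ∈ E) → (∀ x ∈ E, x * x = 1) →
      Nat.card ↥E ≤ 2 ^ r) :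
    HasNormalRank ↥W r := by
  obtain ⟨E, hEW, hEn, hEs, hEc⟩ := hlb
  refine ⟨⟨E.subgroupOf W, ⟨fun x hx w => hEn _ w.2 _ hx⟩,
    isElementaryAbelian_of_sq fun x hx => Subtype.ext (hEs _ hx), ?_⟩, fun E' hn he => ?_⟩
  · rwa [Nat.card_congr (Subgroup.subgroupOfEquivOfLe hEW).toEquiv]
  · rw [← Subgroup.card_map_of_injective W.subtype_injective]
    refine hub _ (Subgroup.map_subtype_le E') ?_ ?_
    · rintro w hw _ ⟨x, hx, rfl⟩
      exact ⟨_, hn.conj_mem x hx ⟨w, hw⟩, rfl⟩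
    · rintro _ ⟨x, hx, rfl⟩
      rw [← map_mul, mul_self_of_isElementaryAbelian he x hx, map_one]

theorem HasNormalRank.sylow {G : Type u} [Group G] [Finite G] {R : Subgroup G}
    (hR : Nat.card ↥R = 2 ^ (Nat.card G).factorization 2) {r : ℕ} (h : HasNormalRank ↥R r) (P : Sylow 2 G) :
    HasNormalRank ↥(P : Subgroup G) r := by
  have : Fact (Nat.Prime 2) := ⟨Nat.prime_two⟩
  exact h.congr ((Sylow.ofCard R hR).equiv P)

section Wreath

variable {G : Type u} [Group G] {G₀ : Type v} [Group G₀] {o : Type w}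
variable {ι : (o → G₀) →* G} {π : Equiv.Perm o →* G}

/-- If `Q` is not elementary abelian, normal elementary abelian subgroups of `Q ≀ T` lie in the base. -/
theorem Setup.normal_le_base (h : Setup ι π) {Q : Subgroup G₀} {T : Subgroup (Equiv.Perm o)}
    (hQ : ∃ a ∈ Q, a * a ≠ 1) {E : Subgroup G} (hE : E ≤ wr ι π Q T)
    (hn : ∀ w ∈ wr ι π Q T, ∀ x ∈ E, w * x * w⁻¹ ∈ E) (hs : ∀ x ∈ E, x * x = 1) :
    E ≤ (funs Q).map ι := by
  classical
  intro e he
  obtain ⟨f, hf, σ, hσ, rfl⟩ := h.mem_wr_iff.1 (hE he)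
  suffices σ = 1 by
    subst this
    rw [map_one, mul_one]
    exact mem_map_of_mem ι hf
  by_contra hne
  obtain ⟨i, hi⟩ : ∃ i, σ i ≠ i := by
    by_contra hh
    push Not at hh
    exact hne (Equiv.ext hh)
  obtain ⟨a, haQ, ha⟩ := hQ
  set s : o → G₀ := Pi.mulSingle i a with hsdef
  have hsQ : s ∈ funs Q := mem_funs.2 fun j => by
    rw [hsdef, Pi.mulSingle_apply]
    split_ifs
    exacts [haQ, one_mem _]
  have hw : ι s ∈ wr ι π Q T := mem_sup_left (mem_map_of_mem ι hsQ)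
  set c : o → G₀ := f * (s ∘ σ.symm) * f⁻¹ * s⁻¹ with hcdef
  have hc : ι f * π σ * (ι s * (ι f * π σ)⁻¹ * (ι s)⁻¹) = ι c := by
    rw [hcdef, map_mul, map_mul, map_mul, map_inv, map_inv, ← h.compat]
    group
  have hcE : ι c ∈ E := hc ▸ mul_mem he (hn _ hw _ (inv_mem he))
  have h1 := hs _ hcE
  rw [← map_mul] at h1
  have h2 : (c * c) i = 1 := by
    rw [(h.indep (c * c) 1 (by rw [map_one, mul_one, h1])).1, Pi.one_apply]
  have h3 : c i = a⁻¹ := by
    simp only [hcdef, hsdef, Pi.mul_apply, Pi.inv_apply, Function.comp_apply, Pi.mulSingle_apply]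
    rw [if_neg (fun e => hi (by rw [Equiv.symm_apply_eq] at e; exact e.symm))]
    simp only [↓reduceIte]
    group
  rw [Pi.mul_apply, h3, ← mul_inv_rev, inv_eq_one] at h2
  exact ha h2

/-- Normal 2-rank of `Q ≀ T` when `Q` has normal 2-rank one. -/
theorem Setup.hasNormalRank_wr [Fintype o] [Finite G₀] (h : Setup ι π) {Q : Subgroup G₀}
    {T : Subgroup (Equiv.Perm o)} (hQ : ∃ a ∈ Q, a * a ≠ 1) {z : G₀} (hzQ : z ∈ Q) (hz : orderOf z = 2)
    (hzc : ∀ a ∈ Q, a * z * a⁻¹ = z)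
    (hQ2 : ∀ E : Subgroup G₀, E ≤ Q → (∀ w ∈ Q, ∀ x ∈ E, w * x * w⁻¹ ∈ E) → (∀ x ∈ E, x * x = 1) →
      Nat.card ↥E ≤ 2) :
    HasNormalRank ↥(wr ι π Q T) (Fintype.card o) := by
  classical
  have hinj : Function.Injective ι := fun f g e => (h.unique (σ := 1) (τ := 1) (by simp [e])).1
  have hzz : z * z = 1 := by rw [← pow_two, ← hz, pow_orderOf_eq_one]
  have hzsq : ∀ x ∈ zpowers z, x * x = 1 := by
    rintro x ⟨k, rfl⟩
    show z ^ k * z ^ k = 1
    rw [← (Commute.refl z).mul_zpow, hzz, one_zpow]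
  have hzQ' : zpowers z ≤ Q := (zpowers_le).2 hzQ
  have hzfix : ∀ w ∈ Q, ∀ x ∈ zpowers z, w * x * w⁻¹ = x := by
    rintro w hw x ⟨k, rfl⟩
    show w * z ^ k * w⁻¹ = z ^ k
    rw [← conj_zpow, hzc w hw]
  refine hasNormalRank_subgroup ⟨(funs (zpowers z)).map ι, ?_, ?_, ?_, ?_⟩ fun E hE hn hs => ?_
  · exact (Subgroup.map_mono fun f hf => mem_funs.2 fun i => hzQ' (mem_funs.1 hf i)).trans le_sup_left
  · rintro w hw _ ⟨g, hg, rfl⟩
    obtain ⟨f, hf, σ, hσ, rfl⟩ := h.mem_wr_iff.1 hw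
    refine ⟨f * g ∘ σ.symm * f⁻¹, mem_funs.2 fun i => ?_, ?_⟩
    · simp only [Pi.mul_apply, Pi.inv_apply, Function.comp_apply]
      rw [hzfix _ (mem_funs.1 hf i) _ (mem_funs.1 hg _)]
      exact mem_funs.1 hg _
    · rw [map_mul, map_mul, map_inv, ← h.compat]
      group
  · rintro _ ⟨g, hg, rfl⟩
    rw [← map_mul, show g * g = 1 from funext fun i => hzsq _ (mem_funs.1 hg i), map_one]
  · rw [Subgroup.card_map_of_injective hinj]
    refine le_of_eq ?_
    rw [← Fintype.card_fin (Fintype.card o), ← hz, ← Nat.card_zpowers, Fintype.card_fin,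
      ← Nat.card_eq_fintype_card, ← Nat.card_fun]
    exact Nat.card_congr ⟨fun f => ⟨fun i => f i, mem_funs.2 fun i => (f i).2⟩,
      fun f i => ⟨f.1 i, mem_funs.1 f.2 i⟩, fun _ => rfl, fun _ => rfl⟩
  · have hb := h.normal_le_base hQ hE hn hs
    let Ei : o → Subgroup G₀ := fun i => (E.comap ι).map (Pi.evalMonoidHom (fun _ : o => G₀) i)
    have hEi : ∀ i, Nat.card ↥(Ei i) ≤ 2 := by
      intro i
      refine hQ2 _ ?_ ?_ ?_
      · rintro _ ⟨f, hf, rfl⟩
        obtain ⟨g, hg, he⟩ := hb hf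
        rw [← hinj he]
        exact mem_funs.1 hg i
      · rintro w hw _ ⟨f, hf, rfl⟩
        have hsQ : Pi.mulSingle i w ∈ funs Q := mem_funs.2 fun j => by
          rw [Pi.mulSingle_apply]
          split_ifs
          exacts [hw, one_mem _]
        refine ⟨Pi.mulSingle i w * f * (Pi.mulSingle i w)⁻¹, ?_, by simp⟩
        show ι _ ∈ E
        rw [map_mul, map_mul, map_inv]
        exact hn _ (mem_sup_left (mem_map_of_mem ι hsQ)) _ hf
      · rintro _ ⟨f, hf, rfl⟩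
        rw [← map_mul, show f * f = 1 from hinj (by rw [map_mul, hs _ hf, map_one]), map_one]
    calc Nat.card ↥E = Nat.card ↥(E.comap ι) := by
          conv_lhs => rw [← Subgroup.map_comap_eq_self (hb.trans (Subgroup.map_le_range ι _))]
          exact Subgroup.card_map_of_injective hinj
      _ ≤ Nat.card (∀ i, ↥(Ei i)) := by
          refine Nat.card_le_card_of_injective (fun f i => ⟨f.1 i, ⟨f.1, f.2, rfl⟩⟩) fun f g e => ?_
          exact Subtype.ext (funext fun i => congrArg Subtype.val (congrFun e i))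
      _ = ∏ i, Nat.card ↥(Ei i) := Nat.card_pi
      _ ≤ ∏ _i : o, 2 := Finset.prod_le_prod' fun i _ => hEi i
      _ = 2 ^ Fintype.card o := by rw [Finset.prod_const, Finset.card_univ]

end Wreath

end Cfsg.Agent.SylowSquares
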