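import Cfsg.Prelude.Def_G2
import Mathlib

/-!
# The split octonions as a double of `M₂(F)`

* `zornEquiv`: Zorn's algebra is `M₂ × M₂` with `(X,Y)(X',Y') = (XX' + θ(Y adj Y'), θX Y' + adj(θX') Y)`;
* `pairHom`: `{(c,d) : det c = det d} → G₂(F)`;
* `pairHom_ker`, `mem_range_of_commute`: its kernel and the centralizer of the involution `pairHom (1,-1)`.
-/

set_option autoImplicit false

namespace Cfsg.Agent.SylowSquares.Octonion

open Matrix

variable (F : Type*) [Field F]

abbrev M₂ : Type _ := Matrix (Fin 2) (Fin 2) F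

variable {F}

/-- An anti-automorphism of `M₂(F)`. -/
def theta (X : M₂ F) : M₂ F := !![X 0 0, -X 1 0; -X 0 1, X 1 1]

theorem theta_mul (X Y : M₂ F) : theta (X * Y) = theta Y * theta X := by
  ext i j
  fin_cases i <;> fin_cases j <;> simp [theta, Matrix.mul_apply, Fin.sum_univ_two] <;> ring

theorem theta_theta (X : M₂ F) : theta (theta X) = X := by
  ext i j
  fin_cases i <;> fin_cases j <;> simp [theta]

theorem theta_one : theta (1 : M₂ F) = 1 := by
  ext i j
  fin_cases i <;> fin_cases j <;> simp [theta]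

theorem theta_add (X Y : M₂ F) : theta (X + Y) = theta X + theta Y := by
  ext i j
  fin_cases i <;> fin_cases j <;> simp [theta] <;> ring

theorem theta_smul (a : F) (X : M₂ F) : theta (a • X) = a • theta X := by
  ext i j
  fin_cases i <;> fin_cases j <;> simp [theta]

theorem det_theta (X : M₂ F) : (theta X).det = X.det := by
  simp [theta, Matrix.det_fin_two]; ring

/-- The product of the double. -/
def dmul (p q : M₂ F × M₂ F) : M₂ F × M₂ F :=
  (p.1 * q.1 + theta (p.2 * adjugate q.2), theta p.1 * q.2 + adjugate (theta q.1) * p.2)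

variable (F)

/-- Coordinates of the double. -/
def zornEquiv : (Fin 8 → F) ≃ₗ[F] M₂ F × M₂ F where
  toFun x := (!![x 0, x 1; x 4, x 7], !![x 2, x 3; -x 6, x 5])
  invFun p := ![p.1 0 0, p.1 0 1, p.2 0 0, p.2 0 1, p.1 1 0, p.2 1 1, -p.2 1 0, p.1 1 1]
  map_add' x y := Prod.ext (by ext i j; fin_cases i <;> fin_cases j <;> simp)
    (by ext i j; fin_cases i <;> fin_cases j <;> simp <;> ring)
  map_smul' a x := Prod.ext (by ext i j; fin_cases i <;> fin_cases j <;> simp)
    (by ext i j; fin_cases i <;> fin_cases j <;> simp)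
  left_inv x := funext fun i => by fin_cases i <;> simp
  right_inv p := Prod.ext (by ext i j; fin_cases i <;> fin_cases j <;> simp)
    (by ext i j; fin_cases i <;> fin_cases j <;> simp)

theorem zornEquiv_mul (x y : Fin 8 → F) :
    zornEquiv F (Lie.zornMul x y) = dmul (zornEquiv F x) (zornEquiv F y) := by
  refine Prod.ext ?_ ?_ <;> ext i j <;> fin_cases i <;> fin_cases j <;>
    simp [zornEquiv, dmul, theta, Lie.zornMul, Lie.dot3, Lie.cross3, Matrix.mul_apply, Fin.sum_univ_two,
      Matrix.adjugate_fin_two] <;> ring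

/-- The pairs of equal determinant. -/
def pairs : Subgroup (GL (Fin 2) F × GL (Fin 2) F) :=
  (GeneralLinearGroup.det.comp (MonoidHom.fst (GL (Fin 2) F) (GL (Fin 2) F)) /
    GeneralLinearGroup.det.comp (MonoidHom.snd (GL (Fin 2) F) (GL (Fin 2) F))).ker

instance : (pairs F).Normal := MonoidHom.normal_ker _

theorem mem_pairs {p : GL (Fin 2) F × GL (Fin 2) F} :
    p ∈ pairs F ↔ GeneralLinearGroup.det p.1 = GeneralLinearGroup.det p.2 := by
  simp [pairs, MonoidHom.mem_ker, div_eq_one]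

variable {F}

/-- The action of a pair on the double. -/
def pairLin (p : GL (Fin 2) F × GL (Fin 2) F) : M₂ F × M₂ F →ₗ[F] M₂ F × M₂ F where
  toFun q := ((p.1 : M₂ F) * q.1 * ((p.1⁻¹ : GL (Fin 2) F) : M₂ F),
    theta ((p.1⁻¹ : GL (Fin 2) F) : M₂ F) * q.2 * theta (p.2 : M₂ F))
  map_add' q r := by simp [mul_add, add_mul]
  map_smul' a q := by simp

theorem pairLin_mul (p q : GL (Fin 2) F × GL (Fin 2) F) (v : M₂ F × M₂ F) :
    pairLin (p * q) v = pairLin p (pairLin q v) := by
  refine Prod.ext ?_ ?_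
  · simp [pairLin, mul_assoc]
  · simp [pairLin, theta_mul, mul_assoc]

theorem adjugate_of_inv {M N : M₂ F} (h : M * N = 1) : adjugate M = M.det • N := by
  calc adjugate M = adjugate M * (M * N) := by rw [h, mul_one]
    _ = M.det • N := by rw [← mul_assoc, adjugate_mul, smul_mul_assoc, one_mul]

theorem pairLin_dmul {p : GL (Fin 2) F × GL (Fin 2) F} (hp : p ∈ pairs F) (u v : M₂ F × M₂ F) :
    pairLin p (dmul u v) = dmul (pairLin p u) (pairLin p v) := by
  obtain ⟨c, d⟩ := p
  have hdet : (c : M₂ F).det = (d : M₂ F).det := congrArg Units.val ((mem_pairs F).1 hp)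
  set C : M₂ F := (c : M₂ F)
  set C' : M₂ F := ((c⁻¹ : GL (Fin 2) F) : M₂ F)
  set D : M₂ F := (d : M₂ F)
  have hC : C * C' = 1 := c.mul_inv
  have hC' : C' * C = 1 := c.inv_mul
  have ht : theta C' * theta C = 1 := by rw [← theta_mul, hC, theta_one]
  have ht' : theta C * theta C' = 1 := by rw [← theta_mul, hC', theta_one]
  have ha : adjugate (theta C') = C'.det • theta C := by rw [adjugate_of_inv ht, det_theta]
  have ha' : adjugate (theta C) = C.det • theta C' := by rw [adjugate_of_inv ht', det_theta]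
  have hcc : C'.det * C.det = 1 := by rw [← Matrix.det_mul, hC', Matrix.det_one]
  have hD : theta D * adjugate (theta D) = D.det • (1 : M₂ F) := by rw [mul_adjugate, det_theta]
  refine Prod.ext ?_ ?_
  · show C * (u.1 * v.1 + theta (u.2 * adjugate v.2)) * C' =
      C * u.1 * C' * (C * v.1 * C') + theta (theta C' * u.2 * theta D * adjugate (theta C' * v.2 * theta D))
    rw [mul_add, add_mul]
    congr 1
    · simp only [mul_assoc]; rw [← mul_assoc C' C, hC', one_mul]
    · rw [show theta C' * u.2 * theta D * adjugate (theta C' * v.2 * theta D) =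
          theta C' * (u.2 * adjugate v.2) * theta C from ?_]
      · conv_rhs => rw [theta_mul, theta_mul, theta_theta, theta_theta]
        simp only [mul_assoc]
      · rw [adjugate_mul_distrib, adjugate_mul_distrib, ha]
        simp only [mul_assoc]
        rw [← mul_assoc (theta D) (adjugate (theta D)), hD, ← hdet]
        simp only [smul_mul_assoc, one_mul, mul_smul_comm, smul_smul, hcc, one_smul]
  · show theta C' * (theta u.1 * v.2 + adjugate (theta v.1) * u.2) * theta D =
      theta (C * u.1 * C') * (theta C' * v.2 * theta D) + adjugate (theta (C * v.1 * C')) * (theta C' * u.2 * theta D)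
    rw [mul_add, add_mul]
    congr 1
    · rw [theta_mul, theta_mul]; simp only [mul_assoc]; rw [← mul_assoc (theta C) (theta C'), ht', one_mul]
    · rw [theta_mul, theta_mul, adjugate_mul_distrib, adjugate_mul_distrib, ha, ha']
      simp only [smul_mul_assoc, mul_smul_comm, smul_smul, mul_assoc]
      rw [← mul_assoc (theta C) (theta C'), ht', one_mul]
      simp [hcc]

/-- The matrix of a pair. -/
noncomputable def pairMat : ↥(pairs F) →* Matrix (Fin 8) (Fin 8) F where
  toFun p := LinearMap.toMatrix' ((zornEquiv F).symm.toLinearMap ∘ₗ pairLin p.1 ∘ₗ (zornEquiv F).toLinearMap)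
  map_one' := by
    rw [← LinearMap.toMatrix'_id]
    congr 1
    refine LinearMap.ext fun x => ?_
    simp [pairLin, theta_one]
  map_mul' p q := by
    rw [← LinearMap.toMatrix'_comp]
    congr 1
    refine LinearMap.ext fun x => ?_
    simp [pairLin_mul]

theorem zornEquiv_pairMat (p : ↥(pairs F)) (x : Fin 8 → F) :
    zornEquiv F (pairMat p *ᵥ x) = pairLin p.1 (zornEquiv F x) := by
  simp [pairMat, LinearMap.toMatrix'_mulVec]

variable (F)

/-- Pairs of equal determinant act on the octonions. -/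
noncomputable def pairHom : ↥(pairs F) →* ↥(Lie.G2 F) :=
  (pairMat (F := F)).toHomUnits.codRestrict _ fun p x y => (zornEquiv F).injective (by
    show zornEquiv F (pairMat p *ᵥ _) = zornEquiv F (Lie.zornMul (pairMat p *ᵥ x) (pairMat p *ᵥ y))
    rw [zornEquiv_pairMat, zornEquiv_mul, zornEquiv_mul, zornEquiv_pairMat, zornEquiv_pairMat, pairLin_dmul p.2])

/-- The underlying linear map of an element of `G₂`. -/
def lin (g : ↥(Lie.G2 F)) : M₂ F × M₂ F →ₗ[F] M₂ F × M₂ F :=
  (zornEquiv F).toLinearMap ∘ₗ ((g : GL (Fin 8) F) : Matrix (Fin 8) (Fin 8) F).mulVecLin ∘ₗ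
    (zornEquiv F).symm.toLinearMap

theorem lin_mul (g h : ↥(Lie.G2 F)) (v : M₂ F × M₂ F) : lin F (g * h) v = lin F g (lin F h v) := by
  simp [lin, Matrix.mulVec_mulVec]

theorem lin_one (v : M₂ F × M₂ F) : lin F 1 v = v := by
  simp [lin]

theorem lin_injective {g h : ↥(Lie.G2 F)} (e : ∀ v, lin F g v = lin F h v) : g = h :=
  Subtype.ext (Units.ext (Matrix.ext_iff_mulVec.2 fun x => by
    have := e (zornEquiv F x)
    simpa [lin] using this))

theorem lin_pairHom (p : ↥(pairs F)) (v : M₂ F × M₂ F) : lin F (pairHom F p) v = pairLin p.1 v := by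
  show zornEquiv F (pairMat p *ᵥ (zornEquiv F).symm v) = _
  rw [zornEquiv_pairMat, LinearEquiv.apply_symm_apply]

theorem lin_dmul (g : ↥(Lie.G2 F)) (u v : M₂ F × M₂ F) : lin F g (dmul u v) = dmul (lin F g u) (lin F g v) := by
  obtain ⟨x, rfl⟩ := (zornEquiv F).surjective u
  obtain ⟨y, rfl⟩ := (zornEquiv F).surjective v
  simp only [lin, LinearMap.comp_apply, LinearEquiv.coe_coe, LinearEquiv.symm_apply_apply, Matrix.mulVecLin_apply,
    ← zornEquiv_mul]
  exact congrArg _ (g.2 x y)

/-- The kernel consists of scalar pairs. -/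
theorem pairHom_ker {p : ↥(pairs F)} (h : pairHom F p = 1) :
    ∃ a : Fˣ, p.1.1 = GeneralLinearGroup.scalar (Fin 2) a ∧ p.1.2 = GeneralLinearGroup.scalar (Fin 2) a := by
  obtain ⟨⟨c, d⟩, hcd⟩ := p
  have h' : ∀ v, pairLin (c, d) v = v := fun v => by
    rw [← lin_pairHom F ⟨(c, d), hcd⟩ v, h, lin_one]
  have hcX : ∀ X : M₂ F, (c : M₂ F) * X = X * (c : M₂ F) := fun X => by
    have h1 : (c : M₂ F) * X * ((c⁻¹ : GL (Fin 2) F) : M₂ F) = X := congrArg Prod.fst (h' (X, 0))
    calc (c : M₂ F) * X = (c : M₂ F) * X * ((c⁻¹ : GL (Fin 2) F) : M₂ F) * (c : M₂ F) := by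
          rw [mul_assoc _ ((c⁻¹ : GL (Fin 2) F) : M₂ F), Units.inv_mul, mul_one]
      _ = X * (c : M₂ F) := by rw [h1]
  obtain ⟨a, ha⟩ : (c : M₂ F) ∈ Set.range (Matrix.scalar (Fin 2)) :=
    Matrix.mem_range_scalar_of_commute_single fun i j _ => (hcX _).symm
  have ha0 : a ≠ 0 := fun e => c.ne_zero (by rw [← ha, e, map_zero])
  have hc : c = GeneralLinearGroup.scalar (Fin 2) (Units.mk0 a ha0) := Units.ext ha.symm
  refine ⟨Units.mk0 a ha0, hc, ?_⟩
  have h2 : theta ((c⁻¹ : GL (Fin 2) F) : M₂ F) * theta (d : M₂ F) = 1 := by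
    have := congrArg Prod.snd (h' (0, 1))
    simpa [pairLin] using this
  rw [← theta_mul] at h2
  have h3 : (d : M₂ F) * ((c⁻¹ : GL (Fin 2) F) : M₂ F) = 1 := by
    rw [← theta_theta ((d : M₂ F) * _), h2, theta_one]
  have h4 : d * c⁻¹ = 1 := Units.ext h3
  rw [← hc]
  exact mul_inv_eq_one.1 h4

theorem negPair_mem : ((1, -1) : GL (Fin 2) F × GL (Fin 2) F) ∈ pairs F :=
  (mem_pairs F).2 (Units.ext (by simp [Matrix.det_neg]))

theorem pairLin_scalar (a b : Fˣ) (v : M₂ F × M₂ F) :
    pairLin (GeneralLinearGroup.scalar (Fin 2) a, GeneralLinearGroup.scalar (Fin 2) b) v =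
      (v.1, ((b : F) / (a : F)) • v.2) := by
  have hs : ∀ c : Fˣ, ((GeneralLinearGroup.scalar (Fin 2) c : GL (Fin 2) F) : M₂ F) = (c : F) • (1 : M₂ F) :=
    fun c => by rw [Matrix.smul_one_eq_diagonal]; rfl
  have hi : ((GeneralLinearGroup.scalar (Fin 2) a)⁻¹ : GL (Fin 2) F) = GeneralLinearGroup.scalar (Fin 2) a⁻¹ :=
    (map_inv _ a).symm
  show (((GeneralLinearGroup.scalar (Fin 2) a : GL (Fin 2) F) : M₂ F) * v.1 *
    (((GeneralLinearGroup.scalar (Fin 2) a)⁻¹ : GL (Fin 2) F) : M₂ F),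
    theta (((GeneralLinearGroup.scalar (Fin 2) a)⁻¹ : GL (Fin 2) F) : M₂ F) * v.2 *
      theta ((GeneralLinearGroup.scalar (Fin 2) b : GL (Fin 2) F) : M₂ F)) = _
  rw [hi, hs, hs, hs]
  simp [theta_smul, theta_one, smul_smul, div_eq_mul_inv, Units.val_inv_eq_inv_val, mul_comm]

/-- The standard involution. -/
noncomputable def invo : ↥(Lie.G2 F) := pairHom F ⟨(1, -1), negPair_mem F⟩

theorem lin_invo (v : M₂ F × M₂ F) : lin F (invo F) v = (v.1, -v.2) := by
  rw [invo, lin_pairHom]
  refine Prod.ext ?_ ?_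
  · simp [pairLin]
  · have hneg : theta (-1 : M₂ F) = -1 := by ext i j; fin_cases i <;> fin_cases j <;> simp [theta]
    simp [pairLin, theta_one, hneg]

/-- Skolem–Noether for `M₂`. -/
theorem exists_conj (A : M₂ F ≃ₐ[F] M₂ F) :
    ∃ c : GL (Fin 2) F, ∀ X, A X = (c : M₂ F) * X * ((c⁻¹ : GL (Fin 2) F) : M₂ F) := by
  let e := Matrix.toLinAlgEquiv' (R := F) (n := Fin 2)
  obtain ⟨T, hT⟩ := ((e.symm.trans A).trans e).eq_linearEquivConjAlgEquiv
  refine ⟨⟨LinearMap.toMatrix' T.toLinearMap, LinearMap.toMatrix' T.symm.toLinearMap, ?_, ?_⟩, fun X => ?_⟩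
  · rw [← LinearMap.toMatrix'_comp]; simp
  · rw [← LinearMap.toMatrix'_comp]; simp
  · refine e.injective ?_
    have h1 := congrArg (fun f : Module.End F (Fin 2 → F) ≃ₐ[F] Module.End F (Fin 2 → F) => f (e X)) hT
    simp only [AlgEquiv.trans_apply, AlgEquiv.symm_apply_apply] at h1
    rw [h1, map_mul, map_mul]
    refine LinearMap.ext fun v => ?_
    simp [e, LinearEquiv.conjAlgEquiv_apply, LinearMap.toMatrix'_mulVec, Matrix.toLinAlgEquiv'_apply]

/-- The centralizer of the standard involution. -/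
theorem mem_range_of_commute (h2 : (2 : F) ≠ 0) {g : ↥(Lie.G2 F)} (h : Commute g (invo F)) :
    g ∈ (pairHom F).range := by
  have hcomm : ∀ v, lin F g (v.1, -v.2) = ((lin F g v).1, -(lin F g v).2) := fun v => by
    rw [← lin_invo, ← lin_mul, h.eq, lin_mul, lin_invo]
  have hX : ∀ X : M₂ F, (lin F g (X, 0)).2 = 0 := fun X => by
    have h1 := congrArg Prod.snd (hcomm (X, 0))
    simp only [neg_zero] at h1
    have h3 : (2 : F) • (lin F g (X, 0)).2 = 0 := by rw [two_smul]; nth_rw 1 [h1]; exact neg_add_cancel _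
    exact (smul_eq_zero.1 h3).resolve_left h2
  have hY : ∀ Y : M₂ F, (lin F g (0, Y)).1 = 0 := fun Y => by
    have h1 := hcomm (0, Y)
    rw [show ((0 : M₂ F), -Y) = -((0 : M₂ F), Y) by simp, map_neg] at h1
    have h2' := congrArg Prod.fst h1
    simp only [Prod.fst_neg] at h2'
    have h3 : (2 : F) • (lin F g (0, Y)).1 = 0 := by rw [two_smul]; nth_rw 1 [← h2']; exact neg_add_cancel _
    exact (smul_eq_zero.1 h3).resolve_left h2
  have hsurj : Function.Surjective (lin F g) := fun v => ⟨lin F g⁻¹ v, by rw [← lin_mul, mul_inv_cancel, lin_one]⟩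
  -- the action on the quaternion subalgebra
  let A₀ : M₂ F →ₗ[F] M₂ F := LinearMap.fst F _ _ ∘ₗ lin F g ∘ₗ LinearMap.inl F _ _
  have hA : ∀ X, lin F g (X, 0) = (A₀ X, 0) := fun X => Prod.ext rfl (hX X)
  have hAmul : ∀ X Y, A₀ (X * Y) = A₀ X * A₀ Y := fun X Y => by
    have h1 := lin_dmul F g (X, 0) (Y, 0)
    rw [hA X, hA Y] at h1
    simp only [dmul, zero_mul, mul_zero] at h1
    have h0 : theta (0 : M₂ F) = 0 := by ext i j; fin_cases i <;> fin_cases j <;> simp [theta]
    rw [h0, add_zero, add_zero] at h1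
    rw [hA] at h1
    simpa using congrArg Prod.fst h1
  have hAinj : Function.Injective A₀ := fun X Y e => by
    have h1 : lin F g (X, 0) = lin F g (Y, 0) := by rw [hA, hA, e]
    have h2' := congrArg (lin F g⁻¹) h1
    rw [← lin_mul, ← lin_mul, inv_mul_cancel, lin_one, lin_one] at h2'
    exact congrArg Prod.fst h2'
  have hAsurj : Function.Surjective A₀ := LinearMap.surjective_of_injective hAinj
  have hA1 : A₀ 1 = 1 := by
    obtain ⟨Z, hZ⟩ := hAsurj 1
    have h1 := hAmul 1 Z
    rw [one_mul, hZ, mul_one] at h1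
    exact h1.symm
  obtain ⟨c, hc⟩ := exists_conj F (AlgEquiv.ofBijective (AlgHom.ofLinearMap A₀ hA1 hAmul) ⟨hAinj, hAsurj⟩)
  replace hc : ∀ X, A₀ X = (c : M₂ F) * X * ((c⁻¹ : GL (Fin 2) F) : M₂ F) := hc
  have hcc : ((c, c) : GL (Fin 2) F × GL (Fin 2) F) ∈ pairs F := (mem_pairs F).2 rfl
  set g' := (pairHom F ⟨(c, c), hcc⟩)⁻¹ * g with hg'
  have hgg : g = pairHom F ⟨(c, c), hcc⟩ * g' := by rw [hg', mul_inv_cancel_left]
  have hX' : ∀ X, lin F g' (X, 0) = (X, 0) := fun X => by
    rw [hg', lin_mul, hA, ← map_inv, lin_pairHom, hc]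
    simp [pairLin, mul_assoc]
  have hY' : ∀ Y, (lin F g' (0, Y)).1 = 0 := fun Y => by
    rw [hg', lin_mul, ← map_inv, lin_pairHom, show lin F g (0, Y) = (0, (lin F g (0, Y)).2) from Prod.ext (hY Y) rfl]
    simp [pairLin]
  let B : M₂ F → M₂ F := fun Y => (lin F g' (0, Y)).2
  have hB : ∀ Y, lin F g' (0, Y) = (0, B Y) := fun Y => Prod.ext (hY' Y) rfl
  have h0 : theta (0 : M₂ F) = 0 := by ext i j; fin_cases i <;> fin_cases j <;> simp [theta]
  have hleft : ∀ X Y, B (X * Y) = X * B Y := fun X Y => by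
    have h1 := lin_dmul F g' (theta X, 0) (0, Y)
    rw [hX', hB Y] at h1
    simp only [dmul, zero_mul, mul_zero, h0, add_zero, theta_theta] at h1
    rw [hB] at h1
    exact congrArg Prod.snd h1
  set N := B 1 with hN
  have hBN : ∀ Y, B Y = Y * N := fun Y => by rw [hN, ← hleft, mul_one]
  have hdetN : N.det = 1 := by
    have h1 := lin_dmul F g' (0, 1) (0, 1)
    rw [hB 1] at h1
    simp only [dmul, zero_mul, mul_zero, h0, adjugate_one, one_mul, theta_one, zero_add, add_zero, mul_one,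
      adjugate_zero] at h1
    rw [hX', mul_adjugate, theta_smul, theta_one] at h1
    have h2' := congrFun (congrFun (congrArg Prod.fst h1) 0) 0
    simpa [eq_comm] using h2'
  let d : GL (Fin 2) F := GeneralLinearGroup.mkOfDetNeZero (theta N) (by rw [det_theta, hdetN]; exact one_ne_zero)
  have hd : ((1, d) : GL (Fin 2) F × GL (Fin 2) F) ∈ pairs F := (mem_pairs F).2 (Units.ext (by
    show (1 : M₂ F).det = (theta N).det
    rw [det_theta, hdetN, Matrix.det_one]))
  have hg'' : g' = pairHom F ⟨(1, d), hd⟩ := by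
    refine lin_injective F fun v => ?_
    rw [lin_pairHom, show v = (v.1, 0) + (0, v.2) by simp, map_add, map_add, hX', hB, hBN]
    have hdval : (d : M₂ F) = theta N := rfl
    simp [pairLin, theta_one, hdval, theta_theta, h0]
  rw [hgg, hg'', ← map_mul]
  exact ⟨_, rfl⟩

end Cfsg.Agent.SylowSquares.Octonion
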