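import Cfsg.Agent.Lib.SylowSquares.Basic
import Cfsg.Agent.Lib.QForm.ReflectionClasses
import Cfsg.Agent.Lib.Forms.QuadOrder

/-!
# The Sylow 2-subgroup of the orthogonal group of `x² + y²`

* `exists_plane_sylow`: generated by reflections of both classes, of order the 2-part of `q² - 1`.
-/

set_option autoImplicit false

namespace Cfsg.Agent.SylowSquares

open scoped Matrix
open Cfsg.Agent.QForm

/-- A Sylow 2-subgroup lies in no kernel of a homomorphism moving an involution. -/
theorem not_le_ker {G A : Type*} [Group G] [Finite G] [Group A] (D : Sylow 2 G) (ψ : G →* A) {r : G}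
    (hrr : r * r = 1) (hr : ψ r ≠ 1) : ¬ (D : Subgroup G) ≤ ψ.ker := by
  have : Fact (Nat.Prime 2) := ⟨Nat.prime_two⟩
  intro hle
  refine D.not_dvd_index (dvd_trans ?_ (Subgroup.index_dvd_of_le hle))
  rw [Subgroup.index_ker]
  have h : orderOf (⟨ψ r, r, rfl⟩ : ψ.range) = 2 :=
    orderOf_eq_prime (Subtype.ext (by show ψ r ^ 2 = 1; rw [← map_pow, pow_two, hrr, map_one]))
      fun h => hr (congrArg Subtype.val h)
  exact h ▸ orderOf_dvd_natCard _

variable (F : Type*) [Field F]

/-- A diagonal form. -/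
noncomputable abbrev dForm {ι : Type} [Fintype ι] (w : ι → F) : QuadraticForm F (ι → F) :=
  QuadraticMap.weightedSumSquares F w

theorem dForm_polar {ι : Type} [Fintype ι] (w : ι → F) (x y : ι → F) :
    QuadraticMap.polar ⇑(dForm F w) x y = 2 * ∑ i, w i * (x i * y i) := by
  simp only [QuadraticMap.polar, QuadraticMap.weightedSumSquares_apply, smul_eq_mul, Pi.add_apply,
    ← Finset.sum_sub_distrib, Finset.mul_sum]
  exact Finset.sum_congr rfl fun i _ => by ring

theorem dForm_nondegenerate {ι : Type} [Fintype ι] [DecidableEq ι] (h2 : (2 : F) ≠ 0) {w : ι → F}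
    (hw : ∀ i, w i ≠ 0) : (QuadraticMap.polarBilin (dForm F w)).Nondegenerate := by
  have hl : ∀ x, (∀ y, QuadraticMap.polar ⇑(dForm F w) x y = 0) → x = 0 := fun x hx => funext fun i => by
    have h := hx (Pi.single i 1)
    rw [dForm_polar, Finset.sum_eq_single i (fun j _ hj => by simp [hj]) (by simp)] at h
    simpa [h2, hw i] using h
  exact ⟨hl, fun y hy => hl y fun x => by rw [QuadraticMap.polar_comm]; exact hy x⟩

theorem plane_det_neg (h2 : (2 : F) ≠ 0) (g : ↥(isometryGroup F ⇑(dForm F (1 : Fin 2 → F))))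
    (hg : ((g : GL (Fin 2) F) : Matrix (Fin 2) (Fin 2) F).det = -1) :
    ∃ (v : Fin 2 → F) (hv : dForm F 1 v ≠ 0), g = refl _ v hv := by
  set M := ((g : GL (Fin 2) F) : Matrix (Fin 2) (Fin 2) F) with hM
  have hval : ∀ x : Fin 2 → F, dForm F (1 : Fin 2 → F) x = x 0 * x 0 + x 1 * x 1 := fun x => by
    simp [QuadraticMap.weightedSumSquares_apply]
  have hQ : ∀ x : Fin 2 → F, (M *ᵥ x) 0 * (M *ᵥ x) 0 + (M *ᵥ x) 1 * (M *ᵥ x) 1 = x 0 * x 0 + x 1 * x 1 :=
    fun x => by rw [← hval, ← hval]; exact act_map _ g x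
  have e0 := hQ ![1, 0]
  have e1 := hQ ![0, 1]
  have e2 := hQ ![1, 1]
  simp [Matrix.mulVec, dotProduct, Fin.sum_univ_two] at e0 e1 e2
  rw [Matrix.det_fin_two] at hg
  have horth : M 0 0 * M 0 1 + M 1 0 * M 1 1 = 0 := by
    refine mul_left_cancel₀ h2 ?_
    linear_combination e2 - e0 - e1
  have hd : M 1 1 = -M 0 0 := by
    linear_combination M 0 0 * hg + M 1 0 * horth - M 1 1 * e0
  have hb : M 0 1 = M 1 0 := by
    linear_combination -M 1 0 * hg + M 0 0 * horth - M 0 1 * e0
  by_cases hne : M 0 0 = 1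
  · have hc : M 1 0 = 0 := by
      rw [hne] at e0
      exact mul_self_eq_zero.1 (by linear_combination e0)
    refine ⟨![0, 1], by simp [hval], isometry_ext _ fun x => ?_⟩
    rw [act_refl, dForm_polar, hval]
    funext i
    fin_cases i <;> simp [act, ← hM, Matrix.mulVec, dotProduct, Fin.sum_univ_two, hb, hd, hc, hne] <;> ring
  · have hn : dForm F (1 : Fin 2 → F) ![M 0 0 - 1, M 1 0] = -(2 * (M 0 0 - 1)) := by
      rw [hval]; simp; linear_combination e0
    have h0 : M 0 0 - 1 ≠ 0 := sub_ne_zero.2 hne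
    refine ⟨![M 0 0 - 1, M 1 0], by rw [hn]; simp [h2, h0], isometry_ext _ fun x => ?_⟩
    rw [act_refl, dForm_polar, hn]
    funext i
    fin_cases i <;> simp [act, ← hM, Matrix.mulVec, dotProduct, Fin.sum_univ_two, hb, hd] <;> field_simp
    · linear_combination (0 : F) * e0
    · linear_combination (-x 1) * e0

variable [Fintype F]

theorem card_plane (hodd : Odd (Fintype.card F)) :
    (Nat.card ↥(isometryGroup F ⇑(dForm F (1 : Fin 2 → F)))).factorization 2 =
      (Fintype.card F ^ 2 - 1).factorization 2 := by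
  classical
  have hq := Fintype.one_lt_card (α := F)
  have h2 := Forms.two_ne_zero_of_odd_card hodd
  rw [Forms.card_isometryGroup (dForm F 1) fun _ => rfl]
  obtain ⟨c, hc⟩ := hodd
  have hsplit : (Fintype.card F ^ 2 - 1).factorization 2 =
      (Fintype.card F - 1).factorization 2 + (Fintype.card F + 1).factorization 2 := by
    rw [show Fintype.card F ^ 2 - 1 = (Fintype.card F + 1) * (Fintype.card F - 1) by
      rw [← Nat.sq_sub_sq, one_pow], Nat.factorization_mul (by omega) (by omega), Finsupp.add_apply, add_comm]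
  rcases (show Fintype.card F % 4 = 1 ∨ Fintype.card F % 4 = 3 by omega) with h | h
  · obtain ⟨i, hi⟩ : IsSquare (-1 : F) := FiniteField.isSquare_neg_one_iff.2 (by omega)
    have hi0 : i ≠ 0 := fun e => by simp [e] at hi
    let e : (Fin 2 → F) ≃ₗ[F] (Fin 1 ⊕ Fin 1 → F) :=
      { toFun := fun x => Sum.elim (fun _ => x 0 + i * x 1) (fun _ => x 0 - i * x 1)
        invFun := fun y => ![2⁻¹ * (y (.inl 0) + y (.inr 0)), (2 * i)⁻¹ * (y (.inl 0) - y (.inr 0))]
        map_add' := fun x y => funext fun j => by rcases j with j | j <;> simp <;> ring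
        map_smul' := fun a x => funext fun j => by rcases j with j | j <;> simp <;> ring
        left_inv := fun x => funext fun j => by fin_cases j <;> simp <;> field_simp <;> ring
        right_inv := fun y => funext fun j => by
          rcases j with j | j <;> rw [Subsingleton.elim j 0] <;> simp <;> field_simp <;> ring }
    rw [Forms.card_isomQ_congr e (fun x => ?_), Forms.card_isomQ_quadPlus 0, hsplit]
    · have h3 : (Fintype.card F + 1).factorization 2 = 1 := by
        obtain ⟨d, hd⟩ : ∃ d, Fintype.card F + 1 = 2 * (2 * d + 1) := ⟨(Fintype.card F + 1) / 4, by omega⟩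
        rw [hd, factorization_two_mul_odd two_ne_zero (odd_two_mul_add_one d), Nat.prime_two.factorization_self]
      rw [Finset.prod_range_zero, mul_one, zero_add, pow_one, one_mul, pow_zero, mul_one,
        Nat.factorization_mul two_ne_zero (by omega), Finsupp.add_apply, Nat.prime_two.factorization_self, h3,
        add_comm]
    · show Forms.quadPlus 1 F (Sum.elim _ _) = _
      rw [Forms.quadPlus_apply]
      simp [quadFormPlus, QuadraticMap.weightedSumSquares_apply, Fin.sum_univ_two]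
      linear_combination (x 1 * x 1) * hi
  · have hab : ∀ z₁ z₂ : F, z₁ ^ 2 + 0 * z₁ * z₂ + 1 * z₂ ^ 2 = 0 → z₁ = 0 ∧ z₂ = 0 := by
      intro z₁ z₂ hz
      by_cases h0 : z₂ = 0
      · exact ⟨pow_eq_zero_iff two_ne_zero |>.1 (by linear_combination hz - z₂ * h0), h0⟩
      · refine absurd ?_ (fun hsq : IsSquare (-1 : F) => FiniteField.isSquare_neg_one_iff.1 hsq h)
        exact ⟨z₁ / z₂, by field_simp; linear_combination -hz⟩
    rw [Forms.card_isomQ_congr (LinearEquiv.finTwoArrow F F) (Q' := Forms.binQ 0 1) (fun x => ?_),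
      Forms.card_isomQ_binQ hab, hsplit, Nat.factorization_mul two_ne_zero (by omega), Finsupp.add_apply,
      Nat.prime_two.factorization_self]
    · have h3 : (Fintype.card F - 1).factorization 2 = 1 := by
        obtain ⟨d, hd⟩ : ∃ d, Fintype.card F - 1 = 2 * (2 * d + 1) := ⟨(Fintype.card F - 1) / 4, by omega⟩
        rw [hd, factorization_two_mul_odd two_ne_zero (odd_two_mul_add_one d), Nat.prime_two.factorization_self]
      rw [h3]
    · simp [Forms.binQ_apply, QuadraticMap.weightedSumSquares_apply, Fin.sum_univ_two, pow_two]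

theorem exists_plane_sylow (hodd : Odd (Fintype.card F)) :
    ∃ D : Subgroup ↥(isometryGroup F ⇑(dForm F (1 : Fin 2 → F))),
      Nat.card ↥D = 2 ^ (Fintype.card F ^ 2 - 1).factorization 2 ∧
      D ≤ Subgroup.closure {g | g ∈ D ∧ ∃ v hv, g = refl _ v hv} ∧
      (∃ v hv, refl (dForm F (1 : Fin 2 → F)) v hv ∈ D ∧ IsSquare (dForm F 1 v)) ∧
      (∃ v hv, refl (dForm F (1 : Fin 2 → F)) v hv ∈ D ∧ ¬ IsSquare (dForm F 1 v)) := by
  classical
  have : Fact (Nat.Prime 2) := ⟨Nat.prime_two⟩
  have h2 := Forms.two_ne_zero_of_odd_card hodd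
  set O := ↥(isometryGroup F ⇑(dForm F (1 : Fin 2 → F)))
  have hQ := dForm_nondegenerate F (w := (1 : Fin 2 → F)) h2 fun _ => one_ne_zero
  obtain ⟨D⟩ : Nonempty (Sylow 2 O) := inferInstance
  set det' : O →* Fˣ := Matrix.GeneralLinearGroup.det.comp (isometryGroup F _).subtype with hdet'
  have hdetv : ∀ v hv, det' (refl _ v hv) = -1 := fun v hv => Units.ext (det_reflectionMatrix _ hv)
  have hdet : ∀ g : O, det' g = 1 ∨ det' g = -1 := by
    intro g
    have hg : g ∈ Subgroup.closure {g : O | ∃ v, ∃ hv : dForm F 1 v ≠ 0, g = refl _ v hv} := by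
      rw [closure_refl_eq_top hQ h2]; trivial
    induction hg using Subgroup.closure_induction with
    | mem y hy =>
      obtain ⟨v, hv, rfl⟩ := hy
      exact Or.inr (hdetv v hv)
    | one => simp
    | mul y z _ _ ihy ihz => rcases ihy with a | a <;> rcases ihz with b | b <;> simp [a, b]
    | inv y _ ih => rcases ih with a | a <;> simp [a]
  have hrefl : ∀ g : O, det' g = -1 → ∃ v hv, g = refl _ v hv := fun g hg =>
    plane_det_neg F h2 g (congrArg Units.val hg)
  obtain ⟨v₁, hv₁⟩ := exists_norm_eq_top hQ h2 (by simp) 1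
  have hne : (-1 : Fˣ) ≠ 1 := fun h => h2 (by
    have := congrArg Units.val h
    simp at this
    linear_combination -this)
  obtain ⟨r, hrD, hr⟩ : ∃ r ∈ (D : Subgroup O), det' r = -1 := by
    by_contra! hcon
    refine not_le_ker D det' (refl_mul_self _ v₁ (by rw [hv₁]; exact one_ne_zero))
      (by rw [hdetv]; exact hne) fun g hg => ?_
    exact (hdet g).resolve_right (hcon g hg)
  have hgen : (D : Subgroup O) ≤ Subgroup.closure {g : O | g ∈ (D : Subgroup O) ∧ ∃ v hv, g = refl _ v hv} := by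
    intro g hg
    have hrS : r ∈ {g : O | g ∈ (D : Subgroup O) ∧ ∃ v hv, g = refl _ v hv} := ⟨hrD, hrefl r hr⟩
    rcases hdet g with h | h
    · refine ((Subgroup.closure _).mul_mem_cancel_right (Subgroup.subset_closure hrS)).1
        (Subgroup.subset_closure ⟨mul_mem hg hrD, hrefl _ ?_⟩)
      rw [map_mul, h, hr, one_mul]
    · exact Subgroup.subset_closure ⟨hg, hrefl g h⟩
  have hcls : ∀ c : F, c ≠ 0 → (∃ w, dForm F (1 : Fin 2 → F) w ≠ 0 ∧ ¬ IsSquare (dForm F 1 w * c)) →
      ∃ v hv, refl (dForm F (1 : Fin 2 → F)) v hv ∈ (D : Subgroup O) ∧ ¬ IsSquare (dForm F 1 v * c) := by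
    rintro c hc ⟨w, hw, hwc⟩
    obtain ⟨χ, hχ⟩ := exists_hom_refl (dForm F (1 : Fin 2 → F)) h2 hc
    by_contra! hcon
    refine not_le_ker D χ (refl_mul_self _ w hw) (by rw [hχ, if_neg hwc]; decide) ?_
    refine hgen.trans ((Subgroup.closure_le _).2 ?_)
    rintro g ⟨hg, v, hv, rfl⟩
    exact MonoidHom.mem_ker.2 (by rw [hχ, if_pos (hcon v hv hg)])
  obtain ⟨δ, hδ⟩ := FiniteField.exists_nonsquare (F := F) (fun h => h2 (by
    have := ringChar.Nat.cast_ringChar (R := F); rw [h] at this; exact_mod_cast this))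
  have hδ0 : δ ≠ 0 := fun h => hδ (h ▸ IsSquare.zero)
  refine ⟨D, by rw [D.card_eq_multiplicity, card_plane F hodd], hgen, ?_, ?_⟩
  · obtain ⟨v, hv, hvD, hvc⟩ := hcls δ hδ0 ⟨v₁, by rw [hv₁]; exact one_ne_zero, by rw [hv₁, one_mul]; exact hδ⟩
    refine ⟨v, hv, hvD, ?_⟩
    by_contra hns
    refine hvc ((quadraticChar_one_iff_isSquare (mul_ne_zero hv hδ0)).1 ?_)
    rw [map_mul, quadraticChar_neg_one_iff_not_isSquare.2 hns, quadraticChar_neg_one_iff_not_isSquare.2 hδ]
    rfl
  · obtain ⟨w, hw⟩ := exists_norm_eq_top hQ h2 (by simp) δ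
    obtain ⟨v, hv, hvD, hvc⟩ := hcls 1 one_ne_zero ⟨w, by rw [hw]; exact hδ0, by rw [hw, mul_one]; exact hδ⟩
    exact ⟨v, hv, hvD, by rwa [mul_one] at hvc⟩

end Cfsg.Agent.SylowSquares
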