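import Cfsg.Agent.Lib.SylowSquares.Reflections
import Cfsg.Agent.Lib.SylowSquares.Blocks
import Cfsg.Agent.Lib.SylowSquares.OrthPlane
import Cfsg.Agent.Lib.GL.Basic
import Cfsg.Agent.Lib.QForm.OrthSum
import Cfsg.Agent.S4623

/-!
# Sylow 2-subgroups of `Ω` for the diagonal forms `Σ (x_k² + y_k²) + Σ d_j z_j²`

* `exists_two_subgroup_model`.
-/

set_option autoImplicit false

namespace Cfsg.Agent.SylowSquares

open scoped Matrix
open Cfsg.Agent.QForm

variable (F : Type*) [Field F] {n r : ℕ}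

/-- The coordinates of the model. -/
abbrev MIdx (n r : ℕ) : Type := (Fin 2 × Fin n) ⊕ Fin r

/-- The weights of the model. -/
def mWt (d : Fin r → F) : MIdx n r → F := Sum.elim 1 d

theorem mWt_ne_zero {d : Fin r → F} (hd : ∀ j, d j ≠ 0) : ∀ i : MIdx n r, mWt F d i ≠ 0
  | .inl _ => one_ne_zero
  | .inr j => hd j

/-- The model form. -/
noncomputable abbrev mForm (d : Fin r → F) : QuadraticForm F (MIdx n r → F) := dForm F (mWt F d)

theorem mForm_split (d : Fin r → F) (x : MIdx n r → F) :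
    mForm F d x = ∑ k, dForm F (1 : Fin 2 → F) (fun a => x (.inl (a, k))) + ∑ j, d j * (x (.inr j) * x (.inr j)) := by
  simp [QuadraticMap.weightedSumSquares_apply, mWt, Fintype.sum_sum_type, Fintype.sum_prod_type_right]

/-- A vector of one block. -/
def lift (k : Fin n) (v : Fin 2 → F) : MIdx n r → F :=
  Sum.elim (fun p => if p.2 = k then v p.1 else 0) 0

/-- A vector of the extra part. -/
def extra (j : Fin r) : MIdx n r → F := Sum.elim 0 (Pi.single j 1)

theorem mForm_lift (d : Fin r → F) (k : Fin n) (v : Fin 2 → F) :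
    mForm F d (lift F k v) = dForm F (1 : Fin 2 → F) v := by
  rw [mForm_split, Finset.sum_eq_single k (fun l _ hl => ?_) (by simp)]
  · simp [lift]
  · simp [lift, QuadraticMap.weightedSumSquares_apply, hl]

theorem mForm_extra (d : Fin r → F) (j : Fin r) : mForm F (n := n) d (extra F j) = d j := by
  rw [mForm_split, Finset.sum_eq_single j (fun l _ hl => by simp [extra, hl]) (by simp)]
  simp [extra, QuadraticMap.weightedSumSquares_apply]

theorem polar_lift (d : Fin r → F) (k : Fin n) (v : Fin 2 → F) (x : MIdx n r → F) :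
    QuadraticMap.polar ⇑(mForm F d) (lift F k v) x = 2 * ∑ a, v a * x (.inl (a, k)) := by
  rw [dForm_polar]
  congr 1
  simp [mWt, lift, Fintype.sum_sum_type, Fintype.sum_prod_type]

theorem polar_extra (d : Fin r → F) (j : Fin r) (x : MIdx n r → F) :
    QuadraticMap.polar ⇑(mForm F d) (extra F j) x = 2 * (d j * x (.inr j)) := by
  rw [dForm_polar]
  congr 1
  simp [mWt, extra, Fintype.sum_sum_type, Pi.single_apply]

theorem blkHom_mulVec (f : Fin n → GL (Fin 2) F) (x : Fin 2 × Fin n → F) (a : Fin 2) (k : Fin n) :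
    ((blkHom F f : Matrix (Fin 2 × Fin n) (Fin 2 × Fin n) F) *ᵥ x) (a, k) =
      ((f k : Matrix (Fin 2) (Fin 2) F) *ᵥ fun b => x (b, k)) a := by
  simp [coe_blkHom, Matrix.mulVec, dotProduct, Matrix.blockDiagonal_apply, Fintype.sum_prod_type]

theorem permHom_mulVec (σ : Equiv.Perm (Fin n)) (x : Fin 2 × Fin n → F) (a : Fin 2) (k : Fin n) :
    ((permHom F (κ := Fin 2) σ : Matrix (Fin 2 × Fin n) (Fin 2 × Fin n) F) *ᵥ x) (a, k) = x (a, σ.symm k) := by
  rw [coe_permHom, PEquiv.toMatrix_toPEquiv_mulVec]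
  rfl

/-- Extension by the identity on the extra part. -/
def extHom : GL (Fin 2 × Fin n) F →* GL (MIdx n r) F := blockDiag.comp (MonoidHom.inl _ _)

theorem extHom_mulVec (M : GL (Fin 2 × Fin n) F) (x : MIdx n r → F) :
    ((extHom F M : GL (MIdx n r) F) : Matrix (MIdx n r) (MIdx n r) F) *ᵥ x =
      Sum.elim ((M : Matrix (Fin 2 × Fin n) (Fin 2 × Fin n) F) *ᵥ (x ∘ Sum.inl)) (x ∘ Sum.inr) := by
  rw [extHom, MonoidHom.comp_apply, blockDiag_val, Matrix.fromBlocks_mulVec]
  simp

variable (d : Fin r → F)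

/-- Isometries acting blockwise. -/
noncomputable def blocks : (Fin n → ↥(isometryGroup F ⇑(dForm F (1 : Fin 2 → F)))) →*
    ↥(isometryGroup F ⇑(mForm F (n := n) d)) :=
  (((extHom F).comp (blkHom F (κ := Fin 2))).comp
    (MonoidHom.compLeft (isometryGroup F ⇑(dForm F (1 : Fin 2 → F))).subtype (Fin n))).codRestrict _
    fun f x _ => by
      show mForm F d (((extHom F (blkHom F _) : GL (MIdx n r) F) : Matrix (MIdx n r) (MIdx n r) F) *ᵥ x) = mForm F d x
      rw [mForm_split, mForm_split, extHom_mulVec]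
      congr 1
      refine Finset.sum_congr rfl fun k _ => ?_
      rw [show (fun a => Sum.elim ((blkHom F ((MonoidHom.compLeft (isometryGroup F ⇑(dForm F (1 : Fin 2 → F))).subtype
          (Fin n)) f) : Matrix _ _ F) *ᵥ (x ∘ Sum.inl)) (x ∘ Sum.inr) (.inl (a, k))) =
          act _ (f k) (fun a => x (.inl (a, k))) from funext fun a => blkHom_mulVec F _ _ a k]
      exact act_map _ _ _

theorem act_blocks (f : Fin n → ↥(isometryGroup F ⇑(dForm F (1 : Fin 2 → F)))) (x : MIdx n r → F) :
    act _ (blocks F d f) x =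
      Sum.elim (fun p => act _ (f p.2) (fun b => x (.inl (b, p.2))) p.1) (x ∘ Sum.inr) :=
  (extHom_mulVec F _ x).trans (congrArg₂ Sum.elim (funext fun p => blkHom_mulVec F _ _ p.1 p.2) rfl)

/-- Permutations of the blocks. -/
noncomputable def perms : Equiv.Perm (Fin n) →* ↥(isometryGroup F ⇑(mForm F (n := n) d)) :=
  ((extHom F).comp (permHom F (κ := Fin 2))).codRestrict _ fun σ x _ => by
    show mForm F d (((extHom F (permHom F σ) : GL (MIdx n r) F) : Matrix (MIdx n r) (MIdx n r) F) *ᵥ x) = mForm F d x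
    rw [mForm_split, mForm_split, extHom_mulVec]
    congr 1
    refine Eq.trans (Finset.sum_congr rfl fun k _ => ?_)
      (Equiv.sum_comp σ.symm fun k => dForm F (1 : Fin 2 → F) fun a => x (.inl (a, k)))
    exact congrArg _ (funext fun a => permHom_mulVec F σ _ a k)

theorem act_perms (σ : Equiv.Perm (Fin n)) (x : MIdx n r → F) :
    act _ (perms F d σ) x = Sum.elim (fun p => x (.inl (p.1, σ.symm p.2))) (x ∘ Sum.inr) :=
  (extHom_mulVec F _ x).trans (congrArg₂ Sum.elim (funext fun p => permHom_mulVec F σ _ p.1 p.2) rfl)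

/-- Signs on the extra part. -/
noncomputable def signs : (Fin r → ℤˣ) →* ↥(isometryGroup F ⇑(mForm F (n := n) d)) :=
  ((blockDiag.comp (MonoidHom.inr _ _)).comp ((GL.diagHom).comp
    (MonoidHom.compLeft (Units.map (Int.castRingHom F).toMonoidHom) (Fin r)))).codRestrict _ fun e x _ => by
    show mForm F d (((blockDiag ((1 : GL (Fin 2 × Fin n) F), GL.diagHom _) : GL (MIdx n r) F) : Matrix (MIdx n r) (MIdx n r) F) *ᵥ x) =
      mForm F d x
    rw [blockDiag_val, mForm_split, mForm_split, Matrix.fromBlocks_mulVec]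
    congr 1
    · simp
    · refine Finset.sum_congr rfl fun j _ => ?_
      simp only [Sum.elim_inr, Matrix.zero_mulVec, zero_add, GL.coe_diagHom, Matrix.mulVec_diagonal,
        Function.comp_apply, MonoidHom.compLeft_apply, Units.coe_map]
      rcases Int.units_eq_one_or (e j) with h | h <;> simp [h]

theorem act_signs (e : Fin r → ℤˣ) (x : MIdx n r → F) :
    act _ (signs F (n := n) d e) x = Sum.elim (x ∘ Sum.inl) (fun j => ((e j : ℤ) : F) * x (.inr j)) := by
  refine (Matrix.fromBlocks_mulVec _ _ _ _ _).trans ?_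
  funext i
  rcases i with p | j <;> simp [GL.coe_diagHom, Matrix.mulVec_diagonal]

theorem refl_lift (k : Fin n) (v : Fin 2 → F) (hv : dForm F (1 : Fin 2 → F) v ≠ 0) :
    refl (mForm F d) (lift F k v) (by rwa [mForm_lift]) = blocks F d (Pi.mulSingle k (refl _ v hv)) := by
  refine isometry_ext _ fun x => ?_
  rw [act_refl, act_blocks, polar_lift, mForm_lift]
  funext i
  rcases i with ⟨a, l⟩ | j
  · rcases eq_or_ne l k with rfl | h
    · simp only [Sum.elim_inl, Pi.mulSingle_eq_same, act_refl, dForm_polar]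
      simp [lift]
    · simp only [Sum.elim_inl, Pi.mulSingle_eq_of_ne h, act_one]
      simp [lift, h]
  · simp [lift]

theorem refl_extra (j : Fin r) (hj : d j ≠ 0) (hne : mForm F (n := n) d (extra F j) ≠ 0) :
    refl (mForm F (n := n) d) (extra F j) hne = signs F d (Pi.mulSingle j (-1)) := by
  refine isometry_ext _ fun x => ?_
  rw [act_refl, act_signs, polar_extra, mForm_extra]
  funext i
  rcases i with ⟨a, l⟩ | l
  · simp [extra]
  · rcases eq_or_ne l j with rfl | h
    · simp [extra]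
      field_simp
      ring
    · simp [extra, h]

theorem act_perms_lift (σ : Equiv.Perm (Fin n)) (k : Fin n) (v : Fin 2 → F) :
    act _ (perms F d σ) (lift F k v) = lift F (σ k) v := by
  rw [act_perms]
  funext i
  rcases i with ⟨a, l⟩ | j <;> simp [lift, Equiv.symm_apply_eq]

theorem act_perms_extra (σ : Equiv.Perm (Fin n)) (j : Fin r) :
    act _ (perms F d σ) (extra F j) = extra F j := by
  rw [act_perms]
  funext i
  rcases i with ⟨a, l⟩ | l <;> simp [extra, Pi.single_apply]

theorem commute_refl {ι : Type} [Fintype ι] [DecidableEq ι] (Q : QuadraticForm F (ι → F)) {x y : ι → F}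
    (hx : Q x ≠ 0) (hy : Q y ≠ 0) (h : QuadraticMap.polar ⇑Q x y = 0) :
    Commute (refl Q x hx) (refl Q y hy) := by
  have h1 : act Q (refl Q x hx) y = y := by rw [act_refl, h, mul_zero, zero_smul, sub_zero]
  have h2 := conj_refl Q (refl Q x hx) y hy
  simp only [h1] at h2
  exact mul_inv_eq_iff_eq_mul.1 h2

variable [Fintype F]

theorem refl_notMem_omega {ι : Type} [Fintype ι] [DecidableEq ι] {Q : QuadraticForm F (ι → F)}
    (hQ : (QuadraticMap.polarBilin Q).Nondegenerate) (h2 : (2 : F) ≠ 0) (x : ι → F) (hx : Q x ≠ 0) :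
    refl Q x hx ∉ Omega F ⇑Q := fun h => by
  classical
  have := (mem_omega_iff_of_prod hQ h2 (refl Q x hx) [x] (by simpa) (by simp; rfl)).1 h
  simp at this

theorem refl_mul_mem_omega {ι : Type} [Fintype ι] [DecidableEq ι] {Q : QuadraticForm F (ι → F)}
    (hQ : (QuadraticMap.polarBilin Q).Nondegenerate) (h2 : (2 : F) ≠ 0) (x y : ι → F) (hx : Q x ≠ 0) (hy : Q y ≠ 0) :
    refl Q x hx * refl Q y hy ∈ Omega F ⇑Q ↔ IsSquare (Q x * Q y) := by
  classical
  rw [mem_omega_iff_of_prod hQ h2 _ [x, y] (by simp [hx, hy]) (by simp; rfl)]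
  simp

theorem perms_mem_omega (h2 : (2 : F) ≠ 0) (hd : ∀ j, d j ≠ 0) (σ : Equiv.Perm (Fin n)) :
    perms F d σ ∈ Omega F ⇑(mForm F (n := n) d) := by
  induction σ using Equiv.Perm.swap_induction_on with
  | one => rw [map_one]; exact one_mem _
  | swap_mul f k l hkl ih =>
    rw [map_mul]
    refine mul_mem ?_ ih
    have hn : ∀ a : Fin 2, mForm F d (lift F k (Pi.single a 1) - lift F l (Pi.single a 1)) = 2 := fun a => by
      rw [QuadraticMap.weightedSumSquares_apply, Fintype.sum_sum_type, Fintype.sum_prod_type, Fintype.sum_eq_single a]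
      · rw [Fintype.sum_eq_add k l hkl (fun m hm => by simp [lift, hm.1, hm.2])]
        simp [mWt, lift, hkl, hkl.symm]
        norm_num
      · intro b hb
        simp [lift, hb]
    have hv : ∀ a : Fin 2, mForm F d (lift F k (Pi.single a 1) - lift F l (Pi.single a 1)) ≠ 0 := fun a => by
      rw [hn]; exact h2
    have heq : perms F d (Equiv.swap k l) = refl _ _ (hv 0) * refl _ _ (hv 1) := by
      refine isometry_ext _ fun x => ?_
      rw [act_perms, act_mul, act_refl, act_refl, hn, hn, QuadraticMap.polar_sub_left, QuadraticMap.polar_sub_left,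
        polar_lift, polar_lift, polar_lift, polar_lift]
      funext i
      rcases i with ⟨a, m⟩ | j
      · rcases eq_or_ne m k with rfl | hmk
        · fin_cases a <;> simp [lift, hkl, hkl.symm] <;> field_simp <;> ring
        rcases eq_or_ne m l with rfl | hml
        · fin_cases a <;> simp [lift, hkl, hkl.symm] <;> field_simp <;> ring
        · fin_cases a <;> simp [lift, hmk, hml, Equiv.swap_apply_of_ne_of_ne hmk hml]
      · simp [lift]
    rw [heq, refl_mul_mem_omega F (dForm_nondegenerate F h2 (mWt_ne_zero F hd)) h2, hn, hn]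
    exact IsSquare.mul_self 2

theorem exists_two_subgroup_model (hodd : Odd (Fintype.card F)) (hn : 2 ≤ n) (hd : ∀ j, d j ≠ 0) :
    ∃ W : Subgroup ↥(isometryGroup F ⇑(mForm F (n := n) d)),
      Nat.card ↥W = 2 ^ (n * (Fintype.card F ^ 2 - 1).factorization 2 + n.factorial.factorization 2 + r) ∧
      SqDer ↥(W ⊓ Omega F ⇑(mForm F (n := n) d)) := by
  classical
  have : Fact (Nat.Prime 2) := ⟨Nat.prime_two⟩
  have h2 := Forms.two_ne_zero_of_odd_card hodd
  have hQ := dForm_nondegenerate F h2 (mWt_ne_zero F (n := n) hd)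
  set Q := mForm F (n := n) d with hQdef
  obtain ⟨D, hDc, hDgen, ⟨v₀, hv₀, hv₀D, hv₀s⟩, ⟨v₁, hv₁, hv₁D, hv₁s⟩⟩ := exists_plane_sylow F hodd
  obtain ⟨T, hT⟩ : ∃ T : Sylow 2 (Equiv.Perm (Fin n)), True := ⟨Classical.arbitrary _, trivial⟩
  obtain ⟨A⟩ : Nonempty (Sylow 2 (alternatingGroup (Fin n))) := inferInstance
  have hTs : SqDer ↥(T : Subgroup (Equiv.Perm (Fin n))) := (S4623.result 2 n T A).1
  have hsetup : Setup (blocks F (n := n) d) (perms F d) := by
    refine ⟨fun σ f => isometry_ext _ fun x => ?_, fun f σ h => ?_⟩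
    · rw [act_mul, act_mul, act_blocks, act_blocks, ← map_inv, act_perms, act_perms]
      funext i
      rcases i with ⟨a, k⟩ | j <;> simp [Equiv.Perm.inv_def]
    · have h' : ∀ x, act _ (blocks F d f) (act _ (perms F d σ) x) = x := fun x => by rw [← act_mul, h, act_one]
      have hσ : σ = 1 := by
        refine Equiv.ext fun k => ?_
        by_contra hne
        have h3 := congrFun (h' (lift F k (Pi.single 0 1))) (Sum.inl (0, k))
        rw [act_perms_lift, act_blocks] at h3
        simp only [Sum.elim_inl] at h3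
        rw [show (fun b => lift F (σ k) (Pi.single (0 : Fin 2) (1 : F)) (Sum.inl (b, k) : MIdx n r)) = 0 from
          funext fun b => by simp [lift, Ne.symm (show σ k ≠ k from hne)]] at h3
        simp [act, lift] at h3
      subst hσ
      refine ⟨funext fun k => isometry_ext _ fun y => funext fun a => ?_, rfl⟩
      have h3 := congrFun (h' (lift F k y)) (Sum.inl (a, k))
      rw [map_one, act_one, act_blocks] at h3
      simpa [lift, act] using h3
  set W₀ := wr (blocks F (n := n) d) (perms F d) D (T : Subgroup (Equiv.Perm (Fin n))) with hW₀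
  have hcomm : ∀ w ∈ W₀, ∀ e, Commute w (signs F d e) := by
    intro w hw e
    obtain ⟨f, -, σ, -, rfl⟩ := hsetup.mem_wr_iff.1 hw
    refine isometry_ext _ fun x => ?_
    rw [act_mul, act_mul, act_mul, act_mul, act_blocks, act_blocks, act_perms, act_perms, act_signs, act_signs]
    funext i
    rcases i with ⟨a, k⟩ | j <;> simp
  let Φ := MonoidHom.noncommCoprod W₀.subtype (signs F (n := n) d) fun w e => hcomm w w.2 e
  have hΦ : Function.Injective Φ := by
    refine (injective_iff_map_eq_one Φ).2 ?_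
    rintro ⟨⟨w, hw⟩, e⟩ h
    replace h : w * signs F d e = 1 := h
    have he : e = 1 := funext fun j => by
      have h3 := congrFun (congrArg (fun g => act Q g (extra F (n := n) j)) h) (Sum.inr j)
      obtain ⟨f, -, σ, -, rfl⟩ := hsetup.mem_wr_iff.1 hw
      simp only [act_mul, act_one, act_signs, act_perms, act_blocks] at h3
      rcases Int.units_eq_one_or (e j) with he | he
      · exact he
      · exfalso
        simp [extra, he] at h3
        exact h2 (by linear_combination -h3)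
    subst he
    rw [map_one, mul_one] at h
    exact Prod.ext (Subtype.ext h) rfl
  set W := Φ.range with hW
  set Ω := Omega F ⇑Q with hΩ
  have hWc : Nat.card ↥W = 2 ^ (n * (Fintype.card F ^ 2 - 1).factorization 2 + n.factorial.factorization 2 + r) := by
    rw [hW, Nat.card_congr (MonoidHom.ofInjective hΦ).toEquiv.symm, Nat.card_prod, hW₀, hsetup.card_wr, hDc,
      T.card_eq_multiplicity, Nat.card_perm, Nat.card_fin, Nat.card_fun, Fintype.card_fin,
      Nat.card_eq_fintype_card, Fintype.card_units_int]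
    rw [← pow_mul, ← pow_add, ← pow_add, mul_comm n, Nat.card_fin]
  have hW₀W : W₀ ≤ W := fun w hw => ⟨(⟨w, hw⟩, 1), show w * signs F d 1 = w by rw [map_one, mul_one]⟩
  have hSW : ∀ e, signs F d e ∈ W := fun e => ⟨(1, e), one_mul (signs F d e)⟩
  let R : Set ↥(isometryGroup F ⇑Q) := {g | ∃ x hx, g = refl Q x hx ∧
    ((∃ (k : Fin n) (v : Fin 2 → F) (hv : dForm F 1 v ≠ 0), refl _ v hv ∈ D ∧ x = lift F k v) ∨
      ∃ j, x = extra F j)}
  have hne : ∀ (k : Fin n) (v : Fin 2 → F), dForm F (1 : Fin 2 → F) v ≠ 0 → Q (lift F k v) ≠ 0 := fun k v hv => by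
    rwa [hQdef, mForm_lift]
  have hRblk : ∀ (k : Fin n) (v : Fin 2 → F) (hv : dForm F 1 v ≠ 0), refl _ v hv ∈ D →
      refl Q (lift F k v) (hne k v hv) ∈ R := fun k v hv hvD => ⟨_, _, rfl, Or.inl ⟨k, v, hv, hvD, rfl⟩⟩
  obtain ⟨k₀, k₁, hk⟩ : ∃ k₀ k₁ : Fin n, k₀ ≠ k₁ := ⟨⟨0, by omega⟩, ⟨1, by omega⟩, by simp⟩
  have hRW : R ⊆ W := by
    rintro _ ⟨x, hx, rfl, ⟨k, v, hv, hvD, rfl⟩ | ⟨j, rfl⟩⟩
    · rw [refl_lift F d k v hv]
      refine hW₀W (Subgroup.mem_sup_left (Subgroup.mem_map_of_mem _ (mem_funs.2 fun l => ?_)))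
      rw [Pi.mulSingle_apply]
      split_ifs
      exacts [hvD, one_mem _]
    · rw [refl_extra F d j (hd j)]
      exact hSW _
  set K := (T : Subgroup (Equiv.Perm (Fin n))).map (perms F (n := n) d) with hK
  have hKW : K ≤ W ⊓ Ω := by
    rintro _ ⟨σ, hσ, rfl⟩
    exact ⟨hW₀W (Subgroup.mem_sup_right (Subgroup.mem_map_of_mem _ hσ)), perms_mem_omega F d h2 hd σ⟩
  have hgen : W ≤ Subgroup.closure R ⊔ K := by
    rintro _ ⟨⟨⟨w, hw⟩, e⟩, rfl⟩
    show w * signs F d e ∈ _
    obtain ⟨f, hf, σ, hσ, rfl⟩ := hsetup.mem_wr_iff.1 hw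
    refine mul_mem (mul_mem (Subgroup.mem_sup_left ?_) (Subgroup.mem_sup_right (Subgroup.mem_map_of_mem _ hσ)))
      (Subgroup.mem_sup_left ?_)
    · refine Subgroup.pi_mem_of_mulSingle_mem (H := (Subgroup.closure R).comap (blocks F d)) f fun k => ?_
      have h1 : D ≤ ((Subgroup.closure R).comap (blocks F d)).comap (MonoidHom.mulSingle (fun _ : Fin n => _) k) := by
        refine hDgen.trans ((Subgroup.closure_le _).2 ?_)
        rintro g ⟨hgD, v, hv, rfl⟩
        show blocks F d (Pi.mulSingle k (refl _ v hv)) ∈ Subgroup.closure R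
        rw [← refl_lift F d k v hv]
        exact Subgroup.subset_closure (hRblk k v hv hgD)
      exact h1 (mem_funs.1 hf k)
    · refine Subgroup.pi_mem_of_mulSingle_mem (H := (Subgroup.closure R).comap (signs F (n := n) d)) e fun j => ?_
      rcases Int.units_eq_one_or (e j) with he | he
      · rw [he, Pi.mulSingle_one]; exact one_mem _
      · rw [he, Subgroup.mem_comap]
        have hne' : Q (extra F j) ≠ 0 := by rw [hQdef, mForm_extra]; exact hd j
        rw [← refl_extra F d j (hd j) hne']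
        exact Subgroup.subset_closure ⟨_, _, rfl, Or.inr ⟨j, rfl⟩⟩
  have hconj : ∀ g ∈ K, ∀ s ∈ R, g * s * g⁻¹ ∈ R := by
    rintro _ ⟨σ, -, rfl⟩ _ ⟨x, hx, rfl, h⟩
    refine ⟨_, _, conj_refl Q (perms F d σ) x hx, ?_⟩
    rcases h with ⟨k, v, hv, hvD, rfl⟩ | ⟨j, rfl⟩
    · exact Or.inl ⟨σ k, v, hv, hvD, act_perms_lift F d σ k v⟩
    · exact Or.inr ⟨j, act_perms_extra F d σ j⟩
  have hclass : ∀ a : F, a ≠ 0 → ∃ v hv, refl (dForm F (1 : Fin 2 → F)) v hv ∈ D ∧ IsSquare (a * dForm F 1 v) := by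
    intro a ha
    by_cases hs : IsSquare a
    · exact ⟨v₀, hv₀, hv₀D, hs.mul hv₀s⟩
    · refine ⟨v₁, hv₁, hv₁D, (quadraticChar_one_iff_isSquare (mul_ne_zero ha hv₁)).1 ?_⟩
      rw [map_mul, quadraticChar_neg_one_iff_not_isSquare.2 hs, quadraticChar_neg_one_iff_not_isSquare.2 hv₁s]
      rfl
  have hpair : ∀ a ∈ R, ∀ b ∈ R, a * b ∈ Ω → Commute a b ∨
      ∃ c ∈ R, a * c ∈ Ω ∧ Commute a c ∧ Commute c b := by
    rintro _ ⟨x, hx, rfl, hxR⟩ _ ⟨y, hy, rfl, hyR⟩ hmem
    rcases hxR with ⟨k, v, hv, hvD, rfl⟩ | ⟨j, rfl⟩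
    · rcases hyR with ⟨l, w, hw, hwD, rfl⟩ | ⟨i, rfl⟩
      · rcases eq_or_ne k l with rfl | hkl
        · obtain ⟨m, hm⟩ : ∃ m, m ≠ k := by
            by_cases h : k = k₀
            · exact ⟨k₁, fun e => hk (h.symm.trans e.symm)⟩
            · exact ⟨k₀, Ne.symm h⟩
          obtain ⟨z, hz, hzD, hzs⟩ := hclass _ hv
          refine Or.inr ⟨_, hRblk m z hz hzD, ?_, commute_refl F Q _ _ ?_, commute_refl F Q _ _ ?_⟩
          · rw [hΩ, refl_mul_mem_omega F hQ h2, mForm_lift, mForm_lift]
            exact hzs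
          · rw [hQdef, polar_lift]; simp [lift, hm.symm]
          · rw [hQdef, polar_lift]; simp [lift, hm]
        · exact Or.inl (commute_refl F Q _ _ (by rw [hQdef, polar_lift]; simp [lift, hkl]))
      · exact Or.inl (commute_refl F Q _ _ (by rw [hQdef, polar_lift]; simp [extra]))
    · rcases hyR with ⟨l, w, hw, hwD, rfl⟩ | ⟨i, rfl⟩
      · exact Or.inl (commute_refl F Q _ _ (by rw [hQdef, polar_extra]; simp [lift]))
      · rcases eq_or_ne j i with rfl | hji
        · exact Or.inl (Commute.refl _)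
        · exact Or.inl (commute_refl F Q _ _ (by rw [hQdef, polar_extra]; simp [extra, hji]))
  have hsq := sqDer_inf_of_involutions Ω W K R hRW hKW hgen hconj
    (by rintro _ ⟨x, hx, rfl, -⟩; exact refl_mul_self Q x hx) (hTs.map _) hpair
    (hRblk k₀ v₀ hv₀ hv₀D) (hRblk k₁ v₁ hv₁ hv₁D)
    (commute_refl F Q _ _ (by rw [hQdef, polar_lift]; simp [lift, hk]))
    (refl_notMem_omega F hQ h2 _ _) (refl_notMem_omega F hQ h2 _ _)
    (by
      rw [hΩ, refl_mul_mem_omega F hQ h2, mForm_lift, mForm_lift]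
      exact fun h => hv₁s (by
        obtain ⟨c, hc⟩ := h
        obtain ⟨s, hs⟩ := hv₀s
        exact ⟨c / s, by
          have : s ≠ 0 := fun e => hv₀ (by rw [hs, e, mul_zero])
          field_simp
          rw [hs] at hc
          linear_combination hc⟩))
    (by
      rintro _ ⟨x, hx, rfl, -⟩
      by_cases hs : IsSquare (Q x)
      · left; rw [hΩ, refl_mul_mem_omega F hQ h2, mForm_lift]; exact hs.mul hv₀s
      · right; rw [hΩ, refl_mul_mem_omega F hQ h2, mForm_lift]
        refine (quadraticChar_one_iff_isSquare (mul_ne_zero hx hv₁)).1 ?_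
        rw [map_mul, quadraticChar_neg_one_iff_not_isSquare.2 hs, quadraticChar_neg_one_iff_not_isSquare.2 hv₁s]
        rfl)
  exact ⟨W, hWc, hsq⟩

end Cfsg.Agent.SylowSquares
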