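import Cfsg.Agent.Lib.SylowSquares.Orthogonal
import Cfsg.Agent.Lib.Forms.QuadOrder

/-!
# 2-parts of the orders of orthogonal groups, `q` odd
-/

set_option autoImplicit false

namespace Cfsg.Agent.SylowSquares

variable (F : Type*) [Field F] [Fintype F]

theorem factorization_prod_even_pow (hodd : Odd (Fintype.card F)) (k : ℕ) :
    (∏ i ∈ Finset.range k, (Fintype.card F ^ (2 * (i + 1)) - 1)) ≠ 0 ∧
    (∏ i ∈ Finset.range k, (Fintype.card F ^ (2 * (i + 1)) - 1)).factorization 2 =
      k * (Fintype.card F ^ 2 - 1).factorization 2 + k.factorial.factorization 2 := by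
  have hq := Fintype.one_lt_card (α := F)
  have hne : ∀ i : ℕ, Fintype.card F ^ (2 * (i + 1)) - 1 ≠ 0 := fun i => by
    have := Nat.one_lt_pow (show 2 * (i + 1) ≠ 0 by omega) hq
    omega
  have hsq : Fintype.card F ^ 2 % 4 = 1 := by
    obtain ⟨c, hc⟩ := hodd
    rw [hc, pow_two, show (2 * c + 1) * (2 * c + 1) = 4 * (c * c + c) + 1 by ring]
    omega
  refine ⟨Finset.prod_ne_zero_iff.2 fun i _ => hne i, ?_⟩
  rw [Nat.factorization_prod fun i _ => hne i, Finsupp.finsetSum_apply, factorization_factorial_eq]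
  simp only [pow_mul]
  rw [Finset.sum_congr rfl fun i _ => factorization_pow_sub_one hsq (fun h => hne 0 (by simp [h])) (i + 1) (by omega),
    Finset.sum_add_distrib, Finset.sum_const, Finset.card_range, smul_eq_mul]

/-- The two possible 2-parts in dimension `2(k+1)`: `A` (square discriminant class) and `B`. -/
theorem even_orders (hodd : Odd (Fintype.card F)) {k : ℕ} {a b : F}
    (hab : ∀ z₁ z₂ : F, z₁ ^ 2 + a * z₁ * z₂ + b * z₂ ^ 2 = 0 → z₁ = 0 ∧ z₂ = 0) :
    let s := (Fintype.card F ^ 2 - 1).factorization 2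
    let A := (k + 1) * s + (k + 1).factorial.factorization 2
    let B := k * s + k.factorial.factorization 2 + 2
    B < A ∧
    ((Nat.card (Forms.isomQ (Forms.quadPlus (k + 1) F))).factorization 2 = A ∧
        (Nat.card (Forms.isomQ (Forms.quadMinus k F a b))).factorization 2 = B ∧
        ((k + 1) % 2 = 0 ∨ Fintype.card F % 4 = 1) ∨
      (Nat.card (Forms.isomQ (Forms.quadPlus (k + 1) F))).factorization 2 = B ∧
        (Nat.card (Forms.isomQ (Forms.quadMinus k F a b))).factorization 2 = A ∧ (k + 1) % 2 = 1) := by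
  intro s A B
  have hq := Fintype.one_lt_card (α := F)
  obtain ⟨hne, hp⟩ := factorization_prod_even_pow F hodd k
  obtain ⟨-, hp1⟩ := factorization_prod_even_pow F hodd 1
  have hs : 3 ≤ s := by
    obtain ⟨c, hc⟩ := hodd
    have hdvd : 2 ^ 3 ∣ Fintype.card F ^ 2 - 1 := by
      obtain ⟨d, hd⟩ : 2 ∣ c * (c + 1) := even_iff_two_dvd.1 (Nat.even_mul_succ_self c)
      refine ⟨d, ?_⟩
      rw [show Fintype.card F ^ 2 = 4 * (c * (c + 1)) + 1 by rw [hc]; ring, hd]
      omega
    have h1 := Nat.one_lt_pow two_ne_zero hq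
    exact (Nat.Prime.pow_dvd_iff_le_factorization Nat.prime_two (by omega)).1 hdvd
  have hfact : (k + 1).factorial.factorization 2 = (k + 1).factorization 2 + k.factorial.factorization 2 := by
    rw [Nat.factorial_succ, Nat.factorization_mul (by omega) k.factorial_ne_zero, Finsupp.add_apply]
  have hqodd : Odd (Fintype.card F ^ ((k + 1) * k)) := hodd.pow
  have hqk : 1 < Fintype.card F ^ (k + 1) := Nat.one_lt_pow (by omega) hq
  have hv : ∀ x : ℕ, x ≠ 0 → (2 * Fintype.card F ^ ((k + 1) * k) * x *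
      ∏ i ∈ Finset.range k, (Fintype.card F ^ (2 * (i + 1)) - 1)).factorization 2 =
      1 + x.factorization 2 + (k * s + k.factorial.factorization 2) := fun x hx => by
    rw [Nat.factorization_mul (mul_ne_zero (mul_ne_zero two_ne_zero hqodd.pos.ne') hx) hne, Finsupp.add_apply,
      Nat.factorization_mul (mul_ne_zero two_ne_zero hqodd.pos.ne') hx, Finsupp.add_apply,
      factorization_two_mul_odd two_ne_zero hqodd, Nat.prime_two.factorization_self, hp]
  have hsum : (Fintype.card F ^ (k + 1) - 1).factorization 2 + (Fintype.card F ^ (k + 1) + 1).factorization 2 =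
      s + (k + 1).factorization 2 := by
    have hne1 : (Fintype.card F ^ 2) ≠ 1 := (Nat.one_lt_pow two_ne_zero hq).ne'
    have hsq : Fintype.card F ^ 2 % 4 = 1 := by
      obtain ⟨c, hc⟩ := hodd
      rw [hc, pow_two, show (2 * c + 1) * (2 * c + 1) = 4 * (c * c + c) + 1 by ring]
      omega
    rw [← factorization_pow_sub_one hsq hne1 (k + 1) (by omega), ← Finsupp.add_apply,
      ← Nat.factorization_mul (by omega) (by omega), ← pow_mul, mul_comm 2, pow_mul,
      mul_comm (Fintype.card F ^ (k + 1) - 1), ← Nat.sq_sub_sq, one_pow]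
  have hone : ∀ x : ℕ, x % 4 = 2 → x.factorization 2 = 1 := fun x hx => by
    obtain ⟨d, rfl⟩ : ∃ d, x = 2 * (2 * d + 1) := ⟨x / 4, by omega⟩
    rw [factorization_two_mul_odd two_ne_zero (odd_two_mul_add_one d), Nat.prime_two.factorization_self]
  have hqk1 : Fintype.card F ^ (k + 1) % 4 = 1 ∨ Fintype.card F ^ (k + 1) % 4 = 3 := by
    obtain ⟨c, hc⟩ : Odd (Fintype.card F ^ (k + 1)) := hodd.pow
    omega
  refine ⟨by show k * s + _ + 2 < (k + 1) * s + _; rw [add_mul, one_mul, hfact]; omega, ?_⟩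
  rw [Forms.card_isomQ_quadPlus, Forms.card_isomQ_quadMinus k hab, hv _ (by omega), hv _ (by omega)]
  show (_ = (k + 1) * s + _ ∧ _) ∨ (_ = k * s + _ + 2 ∧ _)
  rw [add_mul, one_mul, hfact]
  rcases hqk1 with h | h
  · refine Or.inl ⟨?_, ?_, ?_⟩
    · have := hone (Fintype.card F ^ (k + 1) + 1) (by omega)
      omega
    · have := hone (Fintype.card F ^ (k + 1) + 1) (by omega)
      show _ = k * s + _ + 2
      omega
    · rcases Nat.even_or_odd (k + 1) with ⟨c, hc⟩ | ⟨c, hc⟩
      · omega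
      · refine Or.inr ?_
        rw [hc, pow_succ, pow_mul, Nat.mul_mod, Nat.pow_mod] at h
        obtain ⟨d, hd⟩ := hodd
        have : Fintype.card F ^ 2 % 4 = 1 := by
          rw [hd, pow_two, show (2 * d + 1) * (2 * d + 1) = 4 * (d * d + d) + 1 by ring]; omega
        rw [this, one_pow, show (1 % 4 : ℕ) = 1 from rfl, one_mul, Nat.mod_mod] at h
        exact h
  · refine Or.inr ⟨?_, ?_, ?_⟩
    · have := hone (Fintype.card F ^ (k + 1) - 1) (by omega)
      omega
    · have := hone (Fintype.card F ^ (k + 1) - 1) (by omega)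
      show _ = (k + 1) * s + _
      rw [add_mul, one_mul, hfact]
      omega
    · rcases Nat.even_or_odd (k + 1) with ⟨c, hc⟩ | ⟨c, hc⟩
      · exfalso
        obtain ⟨d, hd⟩ : Odd (Fintype.card F ^ c) := hodd.pow
        rw [hc, pow_add, hd, show (2 * d + 1) * (2 * d + 1) = 4 * (d * d + d) + 1 by ring] at h
        omega
      · omega

theorem exists_anisotropic_binary (hodd : Odd (Fintype.card F)) :
    ∃ a b : F, ∀ z₁ z₂ : F, z₁ ^ 2 + a * z₁ * z₂ + b * z₂ ^ 2 = 0 → z₁ = 0 ∧ z₂ = 0 := by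
  have h2 := Forms.two_ne_zero_of_odd_card hodd
  obtain ⟨δ, hδ⟩ := FiniteField.exists_nonsquare (F := F) (fun h => h2 (by
    have := ringChar.Nat.cast_ringChar (R := F); rw [h] at this; exact_mod_cast this))
  refine ⟨0, -δ, fun z₁ z₂ hz => ?_⟩
  have h0 : z₂ = 0 := by
    by_contra h0
    exact hδ ⟨z₁ / z₂, by field_simp; linear_combination -hz⟩
  exact ⟨pow_eq_zero_iff two_ne_zero |>.1 (by linear_combination hz + δ * z₂ * h0), h0⟩

end Cfsg.Agent.SylowSquares
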