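import Cfsg.Agent.Lib.SylowSquares.OrthModel
import Cfsg.Agent.Lib.QForm.Diag
import Cfsg.Agent.Lib.ClassicalSimple.OrthMatrix

/-!
# Sylow 2-subgroups of the orthogonal groups `Ω`, `q` odd

* `sqDer_omega_odd`, `sqDer_omega_even`: reduction to the model forms by the discriminant.
-/

set_option autoImplicit false

namespace Cfsg.Agent.SylowSquares

open scoped Matrix
open Cfsg.Agent.QForm

variable (F : Type*) [Field F] {ι : Type} [Fintype ι] [DecidableEq ι]

/-- The discriminant, normalised. -/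
noncomputable def disc (Q : QuadraticForm F (ι → F)) : F :=
  (gram ⇑Q ⇑(Pi.basisFun F ι)).det * 2 ^ Fintype.card ι

theorem disc_ne_zero (h2 : (2 : F) ≠ 0) {Q : QuadraticForm F (ι → F)}
    (hQ : (QuadraticMap.polarBilin Q).Nondegenerate) : disc F Q ≠ 0 :=
  mul_ne_zero (det_gram_ne_zero hQ _) (pow_ne_zero _ h2)

variable [Fintype F]

/-- Isometric coordinates of a model of the same discriminant. -/
theorem exists_equiv_model (h2 : (2 : F) ≠ 0) {Q : QuadraticForm F (ι → F)}
    (hQ : (QuadraticMap.polarBilin Q).Nondegenerate) {n r : ℕ} (hι : Fintype.card ι = 2 * n + r)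
    {d : Fin r → F} (hd : ∀ j, d j ≠ 0) (h : IsSquare (disc F Q * ∏ j, d j)) :
    Nonempty (↥(isometryGroup F ⇑Q) ≃* ↥(isometryGroup F ⇑(mForm F (n := n) d))) := by
  obtain ⟨g, hg⟩ := (isometric_iff h2 Q (mForm F (n := n) d) hQ
    (dForm_nondegenerate F h2 (mWt_ne_zero F hd)) (Pi.basisFun F ι)
    ((Pi.basisFun F (MIdx n r)).reindex (Fintype.equivOfCardEq (by simp [hι] : Fintype.card (MIdx n r) = Fintype.card ι)))).2 (by
      obtain ⟨s, hs⟩ := h
      refine ⟨s, ?_⟩
      rw [show ∀ σ : MIdx n r ≃ ι, gram ⇑(mForm F (n := n) d) ⇑((Pi.basisFun F (MIdx n r)).reindex σ) =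
          (gram ⇑(mForm F (n := n) d) ⇑(Pi.basisFun F (MIdx n r))).submatrix σ.symm σ.symm from fun σ => by
            rw [Module.Basis.coe_reindex]; rfl, Matrix.det_submatrix_equiv_self, det_gram_diag, ← hs, disc, hι, show Fintype.card (MIdx n r) = 2 * n + r by simp]
      simp [mWt, Fintype.prod_sum_type]
      ring)
  exact ⟨(Forms.isometryGroupEquiv ⇑Q).trans ((Forms.isomCongr (f := fun u _ => Q u)
    (f' := fun w _ => mForm F (n := n) d w) g (fun u _ => hg u)).trans
      (Forms.isometryGroupEquiv ⇑(mForm F (n := n) d)).symm)⟩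

/-- A form isometric to a model, the 2-part of whose group is not too big, has the property. -/
theorem sqDer_omega_of_model (hodd : Odd (Fintype.card F)) {Q : QuadraticForm F (ι → F)} {n r : ℕ} (hn : 2 ≤ n)
    {d : Fin r → F} (hd : ∀ j, d j ≠ 0)
    (e : ↥(isometryGroup F ⇑Q) ≃* ↥(isometryGroup F ⇑(mForm F (n := n) d)))
    (hle : (Nat.card ↥(isometryGroup F ⇑Q)).factorization 2 ≤
      n * (Fintype.card F ^ 2 - 1).factorization 2 + n.factorial.factorization 2 + r)
    (P : Sylow 2 ↥(Omega F ⇑Q)) : SqDer ↥(P : Subgroup ↥(Omega F ⇑Q)) := by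
  have : Fact (Nat.Prime 2) := ⟨Nat.prime_two⟩
  obtain ⟨W, hW, hs⟩ := exists_two_subgroup_model F d hodd hn hd
  have hcardO := Nat.card_congr e.toEquiv
  have hWc : Nat.card ↥W =
      2 ^ (Nat.card ↥(isometryGroup F ⇑(mForm F (n := n) d))).factorization 2 := by
    rw [hW]
    congr 1
    rw [← hcardO]
    refine le_antisymm ?_ hle
    rw [← Nat.Prime.pow_dvd_iff_le_factorization Nat.prime_two Nat.card_pos.ne', ← hW, hcardO]
    exact W.card_subgroup_dvd_card
  let e' : ↥(Omega F ⇑(mForm F (n := n) d)) ≃* ↥(Omega F ⇑Q) :=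
    ((e.symm.subgroupMap _).trans (MulEquiv.subgroupCongr (ClassicalSimple.map_commutator_top e.symm)))
  refine SqDer.sylow_of_hom (e'.toMonoidHom.comp (Subgroup.inclusion (inf_le_right : W ⊓ _ ≤ _)))
    (e'.injective.comp (Subgroup.inclusion_injective inf_le_right)) hs ?_ P
  rw [card_inf_normal _ hWc, Nat.card_congr e'.toEquiv]

/-- Any two-subgroup order bounds the 2-part of an isometric group. -/
theorem le_factorization_of_model (hodd : Odd (Fintype.card F)) {Q : QuadraticForm F (ι → F)} {n r : ℕ} (hn : 2 ≤ n)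
    {d : Fin r → F} (hd : ∀ j, d j ≠ 0)
    (e : ↥(isometryGroup F ⇑Q) ≃* ↥(isometryGroup F ⇑(mForm F (n := n) d))) :
    n * (Fintype.card F ^ 2 - 1).factorization 2 + n.factorial.factorization 2 + r ≤
      (Nat.card ↥(isometryGroup F ⇑Q)).factorization 2 := by
  obtain ⟨W, hW, -⟩ := exists_two_subgroup_model F d hodd hn hd
  rw [← Nat.Prime.pow_dvd_iff_le_factorization Nat.prime_two Nat.card_pos.ne', ← hW, Nat.card_congr e.toEquiv]
  exact W.card_subgroup_dvd_card

theorem sqDer_omega_odd (hodd : Odd (Fintype.card F)) {Q : QuadraticForm F (ι → F)}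
    (hQ : (QuadraticMap.polarBilin Q).Nondegenerate) {m : ℕ} (hm : 2 ≤ m) (hι : Fintype.card ι = 2 * m + 1)
    (hcard : (Nat.card ↥(isometryGroup F ⇑Q)).factorization 2 =
      m * (Fintype.card F ^ 2 - 1).factorization 2 + m.factorial.factorization 2 + 1)
    (P : Sylow 2 ↥(Omega F ⇑Q)) : SqDer ↥(P : Subgroup ↥(Omega F ⇑Q)) := by
  have h2 := Forms.two_ne_zero_of_odd_card hodd
  have hd : ∀ j : Fin 1, (fun _ => disc F Q) j ≠ 0 := fun _ => disc_ne_zero F h2 hQ
  obtain ⟨e⟩ := exists_equiv_model F h2 hQ hι hd (by simp)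
  exact sqDer_omega_of_model F hodd hm hd e hcard.le P

/-- Even dimension: the two types are told apart by their orders. -/
theorem sqDer_omega_even (hodd : Odd (Fintype.card F)) {Q : QuadraticForm F (ι → F)}
    (hQ : (QuadraticMap.polarBilin Q).Nondegenerate) {ι' : Type} [Fintype ι'] [DecidableEq ι']
    {Q' : QuadraticForm F (ι' → F)} (hQ' : (QuadraticMap.polarBilin Q').Nondegenerate) {k : ℕ} (hk : 1 ≤ k)
    (hι : Fintype.card ι = 2 * (k + 1)) (hι' : Fintype.card ι' = 2 * (k + 1))
    {A B : ℕ} (hA : A = (k + 1) * (Fintype.card F ^ 2 - 1).factorization 2 + (k + 1).factorial.factorization 2)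
    (hB : B = k * (Fintype.card F ^ 2 - 1).factorization 2 + k.factorial.factorization 2 + 2) (hAB : B < A)
    (hv : ((Nat.card ↥(isometryGroup F ⇑Q)).factorization 2 = A ∧
        (Nat.card ↥(isometryGroup F ⇑Q')).factorization 2 = B) ∨
      ((Nat.card ↥(isometryGroup F ⇑Q)).factorization 2 = B ∧
        (Nat.card ↥(isometryGroup F ⇑Q')).factorization 2 = A ∧ 2 ≤ k))
    (P : Sylow 2 ↥(Omega F ⇑Q)) : SqDer ↥(P : Subgroup ↥(Omega F ⇑Q)) := by
  classical
  have h2 := Forms.two_ne_zero_of_odd_card hodd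
  have hd0 : ∀ j : Fin 0, (0 : Fin 0 → F) j ≠ 0 := fun j => j.elim0
  by_cases hs : IsSquare (disc F Q)
  · obtain ⟨e⟩ := exists_equiv_model F h2 hQ (n := k + 1) (r := 0) (by omega) hd0 (by simpa using hs)
    refine sqDer_omega_of_model F hodd (by omega) hd0 e ?_ P
    omega
  · have hd : ∀ j : Fin 2, ![1, disc F Q] j ≠ 0 := fun j => by
      fin_cases j
      exacts [one_ne_zero, disc_ne_zero F h2 hQ]
    obtain ⟨e⟩ := exists_equiv_model F h2 hQ (n := k) (r := 2) (by omega) hd (by simp)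
    rcases hv with ⟨hQA, hQB⟩ | ⟨hQB, -, hk2⟩
    · exfalso
      by_cases hs' : IsSquare (disc F Q')
      · obtain ⟨e'⟩ := exists_equiv_model F h2 hQ' (n := k + 1) (r := 0) (by omega) hd0 (by simpa using hs')
        have := le_factorization_of_model F hodd (by omega) hd0 e'
        omega
      · obtain ⟨e'⟩ := exists_equiv_model F h2 hQ' (n := k) (r := 2) (by omega) hd (by
          refine (quadraticChar_one_iff_isSquare ?_).1 ?_
          · simp [disc_ne_zero F h2 hQ', disc_ne_zero F h2 hQ]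
          · simp only [Fin.prod_univ_two, Matrix.cons_val_zero, Matrix.cons_val_one, one_mul]
            rw [map_mul, quadraticChar_neg_one_iff_not_isSquare.2 hs, quadraticChar_neg_one_iff_not_isSquare.2 hs']
            rfl)
        rw [Nat.card_congr (e.trans e'.symm).toEquiv] at hQA
        omega
    · exact sqDer_omega_of_model F hodd hk2 hd e (by omega) P

end Cfsg.Agent.SylowSquares
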