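import Cfsg.Agent.Lib.SylowSquares.Basic

/-!
# The kernel of a two-class character on a group generated by commuting-rich involutions

* `sqDer_inf_of_involutions`.
-/

set_option autoImplicit false

namespace Cfsg.Agent.SylowSquares

open Subgroup
open scoped commutatorElement

universe u

/-- `R` a set of involutions falling into the two classes of `u`, `v` modulo `N`, any two of one class having a
common commuting member of that class; then `(⟨R⟩ K) ⊓ N` has its squares in its derived subgroup. -/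
theorem sqDer_inf_of_involutions {G : Type u} [Group G] (N W K : Subgroup G) [N.Normal] (R : Set G)
    (hRW : R ⊆ W) (hKW : K ≤ W ⊓ N) (hW : W ≤ closure R ⊔ K)
    (hconj : ∀ k ∈ K, ∀ r ∈ R, k * r * k⁻¹ ∈ R) (hinv : ∀ r ∈ R, r * r = 1) (hK : SqDer ↥K)
    (hpair : ∀ r ∈ R, ∀ s ∈ R, r * s ∈ N →
      Commute r s ∨ ∃ c ∈ R, r * c ∈ N ∧ Commute r c ∧ Commute c s)
    {u v : G} (hu : u ∈ R) (hv : v ∈ R) (huv : Commute u v) (hu1 : u ∉ N) (hv1 : v ∉ N) (huv1 : u * v ∉ N)
    (hcls : ∀ r ∈ R, r * u ∈ N ∨ r * v ∈ N) :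
    SqDer ↥(W ⊓ N) := by
  set S₀ := closure {x : G | x ∈ W ⊓ N ∧ x * x = 1} with hS₀
  have hS₀le : S₀ ≤ W ⊓ N := (closure_le _).2 fun x hx => hx.1
  have hcomm : ∀ r ∈ R, ∀ c ∈ R, r * c ∈ N → Commute r c → r * c ∈ S₀ := fun r hr c hc hN hcm =>
    subset_closure ⟨⟨mul_mem (hRW hr) (hRW hc), hN⟩, by
      rw [hcm.symm.mul_mul_mul_comm r c, hinv r hr, hinv c hc, one_mul]⟩
  have hrs : ∀ r ∈ R, ∀ s ∈ R, r * s ∈ N → r * s ∈ S₀ := by
    intro r hr s hs hN
    rcases hpair r hr s hs hN with h | ⟨c, hc, hrc, h1, h2⟩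
    · exact hcomm r hr s hs hN h
    · have hcs : c * s ∈ N := by
        have := mul_mem (inv_mem hrc) hN
        rwa [mul_inv_rev, mul_assoc, inv_mul_cancel_left, inv_eq_of_mul_eq_one_right (hinv c hc)] at this
      have h3 := mul_mem (hcomm r hr c hc hrc h1) (hcomm c hc s hs hcs h2)
      rwa [mul_assoc, ← mul_assoc c c, hinv c hc, one_mul] at h3
  have hnormW : ∀ w ∈ W, ∀ x ∈ S₀, w * x * w⁻¹ ∈ S₀ := by
    intro w hw x hx
    induction hx using closure_induction with
    | mem y hy =>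
      refine subset_closure ⟨⟨W.mul_mem (W.mul_mem hw hy.1.1) (W.inv_mem hw),
        Subgroup.Normal.conj_mem ‹N.Normal› y hy.1.2 w⟩, ?_⟩
      rw [show w * y * w⁻¹ * (w * y * w⁻¹) = w * (y * y) * w⁻¹ by group, hy.2, mul_one, mul_inv_cancel]
    | one => simp
    | mul y z _ _ ihy ihz =>
      rw [show w * (y * z) * w⁻¹ = w * y * w⁻¹ * (w * z * w⁻¹) by group]
      exact mul_mem ihy ihz
    | inv y _ ih =>
      rw [show w * y⁻¹ * w⁻¹ = (w * y * w⁻¹)⁻¹ by group]
      exact inv_mem ih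
  -- `closure {u, v}` is a four-group
  have hQ : ∀ x ∈ closure ({u, v} : Set G), x = 1 ∨ x = u ∨ x = v ∨ x = u * v := by
    intro x hx
    have huu := hinv u hu
    have hvv := hinv v hv
    have hvu : v * u = u * v := huv.eq.symm
    induction hx using closure_induction with
    | mem y hy => rcases hy with rfl | rfl <;> simp
    | one => simp
    | mul y z _ _ ihy ihz =>
      have e1 : ∀ a, u * (u * a) = a := fun a => by rw [← mul_assoc, huu, one_mul]
      have e2 : ∀ a, v * (u * a) = u * (v * a) := fun a => by rw [← mul_assoc, hvu, mul_assoc]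
      rcases ihy with rfl | rfl | rfl | rfl <;> rcases ihz with rfl | rfl | rfl | rfl <;>
        simp [mul_assoc, huu, hvv, hvu, e1, e2]
    | inv y _ ih =>
      have iu : u⁻¹ = u := inv_eq_of_mul_eq_one_right huu
      have iv : v⁻¹ = v := inv_eq_of_mul_eq_one_right hvv
      rcases ih with rfl | rfl | rfl | rfl <;> simp [iu, iv, hvu]
  have hle : closure ({u, v} : Set G) ≤ normalizer (S₀ : Set G) := by
    have huW : closure ({u, v} : Set G) ≤ W := (closure_le _).2 (by
      rintro y (rfl | rfl)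
      exacts [hRW hu, hRW hv])
    intro w hw
    refine mem_normalizer_iff.2 fun x => ⟨hnormW w (huW hw) x, fun hx => ?_⟩
    have := hnormW w⁻¹ (inv_mem (huW hw)) _ hx
    rwa [show w⁻¹ * (w * x * w⁻¹) * w⁻¹⁻¹ = x by group] at this
  have hR : closure R ⊓ N ≤ S₀ := by
    rintro y ⟨hy, hyN⟩
    have hy' : y ∈ ((S₀ ⊔ closure {u, v} : Subgroup G) : Set G) := by
      refine (closure_le (S₀ ⊔ closure {u, v})).2 (fun r hr => ?_) hy
      rcases hcls r hr with h | h
      · have := mul_mem (mem_sup_left (hrs r hr u hu h) : r * u ∈ S₀ ⊔ closure {u, v})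
          (mem_sup_right (subset_closure (Set.mem_insert u {v})))
        rwa [mul_assoc, hinv u hu, mul_one] at this
      · have := mul_mem (mem_sup_left (hrs r hr v hv h) : r * v ∈ S₀ ⊔ closure {u, v})
          (mem_sup_right (subset_closure (Set.mem_insert_of_mem u (Set.mem_singleton v))))
        rwa [mul_assoc, hinv v hv, mul_one] at this
    rw [coe_mul_of_right_le_normalizer_left _ _ hle, Set.mem_mul] at hy'
    obtain ⟨s, hs, x, hx, rfl⟩ := hy'
    have hxN : x ∈ N := (N.mul_mem_cancel_left (hS₀le hs).2).1 hyN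
    rcases hQ x hx with rfl | rfl | rfl | rfl
    · rw [mul_one]; exact hs
    all_goals contradiction
  have hKR : K ≤ normalizer (closure R : Set G) := by
    have aux : ∀ k ∈ K, ∀ y ∈ closure R, k * y * k⁻¹ ∈ closure R := by
      intro k hk y hy
      have h1 : (closure R).map (MulAut.conj k).toMonoidHom ≤ closure R := by
        rw [MonoidHom.map_closure, closure_le]
        rintro _ ⟨r, hr, rfl⟩
        exact subset_closure (hconj k hk r hr)
      exact h1 (mem_map_of_mem _ hy)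
    intro k hk
    refine mem_normalizer_iff.2 fun x => ⟨aux k hk x, fun hx => ?_⟩
    have := aux k⁻¹ (inv_mem hk) _ hx
    rwa [show k⁻¹ * (k * x * k⁻¹) * k⁻¹⁻¹ = x by group] at this
  refine sqDer_of_mem fun x hx => ?_
  have hx' : x ∈ ((closure R ⊔ K : Subgroup G) : Set G) := hW hx.1
  rw [coe_mul_of_right_le_normalizer_left _ _ hKR, Set.mem_mul] at hx'
  obtain ⟨y, hy, k, hk, rfl⟩ := hx'
  have hy₀ : y ∈ S₀ := hR ⟨hy, (N.mul_mem_cancel_right (hKW hk).2).1 hx.2⟩
  have hy2 : y ^ 2 ∈ ⁅W ⊓ N, W ⊓ N⁆ := by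
    rw [hS₀] at hy₀
    refine (?_ : y ∈ W ⊓ N ∧ y ^ 2 ∈ ⁅W ⊓ N, W ⊓ N⁆).2
    clear hy hx
    induction hy₀ using closure_induction with
    | mem z hz => exact ⟨hz.1, by rw [pow_two, hz.2]; exact one_mem _⟩
    | one => exact ⟨one_mem _, by rw [one_pow]; exact one_mem _⟩
    | mul a b _ _ iha ihb => exact ⟨mul_mem iha.1 ihb.1, mul_sq_mem iha.1 ihb.1 iha.2 ihb.2⟩
    | inv a _ ih => exact ⟨inv_mem ih.1, by rw [inv_pow]; exact inv_mem ih.2⟩
  exact mul_sq_mem (hS₀le hy₀) (hKW hk) hy2 (commutator_mono hKW hKW (hK.mem hk))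

end Cfsg.Agent.SylowSquares
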