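import Cfsg.Agent.Lib.SylowSquares.Symplectic

/-!
# Derived length of the Sylow 2-subgroups of `Sp₂ₘ(q)`, `q` odd
-/

set_option autoImplicit false

namespace Cfsg.Agent.SylowSquares

open Matrix Subgroup
open scoped MatrixGroups commutatorElement

universe u v w

theorem derivedSeries_two_quaternion (n : ℕ) : derivedSeries (QuaternionGroup n) 2 = ⊥ := by
  let A : Subgroup (QuaternionGroup n) :=
    { carrier := {x | ∃ i, x = QuaternionGroup.a i}
      one_mem' := ⟨0, rfl⟩
      mul_mem' := by rintro _ _ ⟨i, rfl⟩ ⟨j, rfl⟩; exact ⟨i + j, rfl⟩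
      inv_mem' := by rintro _ ⟨i, rfl⟩; exact ⟨-i, rfl⟩ }
  have h1 : derivedSeries (QuaternionGroup n) 1 ≤ A := by
    rw [derivedSeries_one, _root_.commutator_def, Subgroup.commutator_le]
    rintro (i | i) _ (j | j) _ <;> exact ⟨_, rfl⟩
  rw [eq_bot_iff, derivedSeries_succ, Subgroup.commutator_le]
  intro x hx y hy
  obtain ⟨i, rfl⟩ := h1 hx
  obtain ⟨j, rfl⟩ := h1 hy
  rw [Subgroup.mem_bot, commutatorElement_eq_one_iff_mul_comm, QuaternionGroup.a_mul_a, QuaternionGroup.a_mul_a,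
    add_comm]

theorem derivedSeries_eq_bot_of_equiv {A : Type u} {B : Type v} [Group A] [Group B] (e : A ≃* B) {d : ℕ}
    (h : derivedSeries B d = ⊥) : derivedSeries A d = ⊥ := by
  rw [← Subgroup.map_eq_bot_iff_of_injective _ (f := e.toMonoidHom) e.injective,
    map_derivedSeries_eq (f := e.toMonoidHom) e.surjective, h]

theorem isPGroup_sup {p : ℕ} {G : Type u} [Group G] {H K : Subgroup G} (hH : IsPGroup p ↥H) (hK : IsPGroup p ↥K)
    (hn : ∀ k ∈ K, ∀ h ∈ H, k * h * k⁻¹ ∈ H) : IsPGroup p ↥(H ⊔ K : Subgroup G) := by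
  refine hH.to_sup_of_normal_left' hK fun k hk => Subgroup.mem_normalizer_iff.2 fun h => ⟨hn k hk h, fun hh => ?_⟩
  have := hn k⁻¹ (inv_mem hk) _ hh
  rwa [inv_inv, show k⁻¹ * (k * h * k⁻¹) * k = h by group] at this

section Supp

variable {G : Type u} [Group G] {G₀ : Type v} [Group G₀] {o : Type w}
variable {ι : (o → G₀) →* G} {π : Equiv.Perm o →* G}

theorem perm_symm_fix {σ : Equiv.Perm o} {x : o} (h : σ x = x) : σ.symm x = x := by
  rw [Equiv.symm_apply_eq, h]

/-- The elements of the wreathed group living on the coordinates in `S`. -/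
def supp (h : Setup ι π) (S : Set o) : Subgroup G where
  carrier := {x | ∃ f σ, x = ι f * π σ ∧ (∀ z ∉ S, f z = 1) ∧ ∀ z ∉ S, σ z = z}
  one_mem' := ⟨1, 1, by simp, fun _ _ => rfl, fun _ _ => rfl⟩
  mul_mem' := by
    rintro _ _ ⟨f, σ, rfl, hf, hσ⟩ ⟨g, τ, rfl, hg, hτ⟩
    exact ⟨_, _, h.mul_eq f g σ τ, fun z hz => by
      simp [hf z hz, perm_symm_fix (hσ z hz), hg z hz], fun z hz => by simp [hτ z hz, hσ z hz]⟩
  inv_mem' := by
    rintro _ ⟨f, σ, rfl, hf, hσ⟩
    refine ⟨f⁻¹ ∘ σ, σ⁻¹, ?_, fun z hz => by simp [hσ z hz, hf z hz], fun z hz => by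
      simp [perm_symm_fix (hσ z hz)]⟩
    have := h.compat σ⁻¹ f⁻¹
    rw [show (σ⁻¹ : Equiv.Perm o).symm = σ from rfl] at this
    rw [← this, map_inv, map_inv]
    group

theorem supp_mono (h : Setup ι π) {S S' : Set o} (hS : S ⊆ S') : supp h S ≤ supp h S' := by
  rintro _ ⟨f, σ, rfl, hf, hσ⟩
  exact ⟨f, σ, rfl, fun z hz => hf z fun e => hz (hS e), fun z hz => hσ z fun e => hz (hS e)⟩

theorem commute_of_disjoint (h : Setup ι π) {S S' : Set o} (hd : Disjoint S S') {x y : G}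
    (hx : x ∈ supp h S) (hy : y ∈ supp h S') : Commute x y := by
  obtain ⟨f, σ, rfl, hf, hσ⟩ := hx
  obtain ⟨g, τ, rfl, hg, hτ⟩ := hy
  have key : ∀ {A B : Set o}, Disjoint A B → ∀ (φ : Equiv.Perm o), (∀ z ∉ A, φ z = z) → ∀ (k : o → G₀),
      (∀ z ∉ B, k z = 1) → k ∘ φ.symm = k := by
    intro A B hAB φ hφ k hk
    funext z
    by_cases hz : z ∈ A
    · have hz' : φ.symm z ∈ A := by
        by_contra hne
        have := hφ _ hne
        rw [Equiv.apply_symm_apply] at this
        exact hne (this ▸ hz)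
      rw [Function.comp_apply, hk _ (Set.disjoint_left.1 hAB hz'), hk _ (Set.disjoint_left.1 hAB hz)]
    · rw [Function.comp_apply, perm_symm_fix (hφ z hz)]
  show ι f * π σ * (ι g * π τ) = ι g * π τ * (ι f * π σ)
  rw [h.mul_eq, h.mul_eq, key hd σ hσ g hg, key hd.symm τ hτ f hf]
  congr 2
  · funext z
    by_cases hz : z ∈ S
    · simp [hg z (Set.disjoint_left.1 hd hz)]
    · simp [hf z hz]
  · refine (Equiv.Perm.Disjoint.commute fun z => ?_).eq
    by_cases hz : z ∈ S
    · exact Or.inr (hτ z (Set.disjoint_left.1 hd hz))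
    · exact Or.inl (hσ z hz)

theorem eq_one_of_mem_disjoint (h : Setup ι π) {S S' : Set o} (hd : Disjoint S S') {x : G}
    (hx : x ∈ supp h S) (hy : x ∈ supp h S') : x = 1 := by
  classical
  obtain ⟨f, σ, rfl, hf, hσ⟩ := hx
  obtain ⟨g, τ, he, hg, hτ⟩ := hy
  obtain ⟨rfl, rfl⟩ := h.unique he
  rw [show f = 1 from funext fun z => if hz : z ∈ S then hg z (Set.disjoint_left.1 hd hz) else hf z hz,
    show σ = 1 from Equiv.ext fun z => if hz : z ∈ S then hτ z (Set.disjoint_left.1 hd hz) else hσ z hz,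
    map_one, map_one, one_mul]

theorem conj_mem_supp (h : Setup ι π) {S S' : Set o} (φ : Equiv.Perm o) (hS : ∀ z ∈ S, φ z ∈ S') {x : G}
    (hx : x ∈ supp h S) : π φ * x * (π φ)⁻¹ ∈ supp h S' := by
  obtain ⟨f, σ, rfl, hf, hσ⟩ := hx
  have hout : ∀ z ∉ S', φ.symm z ∉ S := fun z hz e => hz (by simpa using hS _ e)
  refine ⟨f ∘ φ.symm, φ * σ * φ⁻¹, ?_, fun z hz => hf _ (hout z hz), fun z hz => ?_⟩
  · rw [map_mul, map_mul, map_inv, ← h.compat]
    group
  · show φ (σ (φ.symm z)) = z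
    rw [hσ _ (hout z hz), Equiv.apply_symm_apply]

end Supp

/-- The map exchanging `[0, a)` and `[a, 2a)`. -/
def swapFun {m : ℕ} (a : ℕ) (h : 2 * a ≤ m) (x : Fin m) : Fin m :=
  if hx : x.val < a then ⟨x.val + a, by omega⟩
  else if x.val < 2 * a then ⟨x.val - a, by omega⟩ else x

theorem swapFun_involutive {m : ℕ} (a : ℕ) (h : 2 * a ≤ m) : Function.Involutive (swapFun a h) := by
  intro x
  unfold swapFun
  by_cases h1 : x.val < a
  · rw [dif_pos h1, dif_neg (show ¬ x.val + a < a by omega), if_pos (show x.val + a < 2 * a by omega)]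
    exact Fin.ext (by simp)
  · by_cases h2 : x.val < 2 * a
    · rw [dif_neg h1, if_pos h2, dif_pos (show x.val - a < a by omega)]
      exact Fin.ext (by simp; omega)
    · rw [dif_neg h1, if_neg h2, dif_neg h1, if_neg h2]

/-- Exchange `[0, a)` and `[a, 2a)`. -/
def blockSwap (m a : ℕ) : Equiv.Perm (Fin m) :=
  if h : 2 * a ≤ m then (swapFun_involutive a h).toPerm (swapFun a h) else 1

theorem blockSwap_mul_self (m a : ℕ) : blockSwap m a * blockSwap m a = 1 := by
  unfold blockSwap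
  split_ifs with h
  · exact Equiv.ext fun x => Function.Involutive.toPerm_involutive _ x
  · rw [mul_one]

theorem blockSwap_lt {m a : ℕ} (h : 2 * a ≤ m) {x : Fin m} (hx : x.val < a) :
    a ≤ (blockSwap m a x).val ∧ (blockSwap m a x).val < 2 * a := by
  unfold blockSwap
  rw [dif_pos h, Function.Involutive.coe_toPerm]
  unfold swapFun
  rw [dif_pos hx]
  show a ≤ x.val + a ∧ x.val + a < 2 * a
  omega

theorem blockSwap_ge {m a : ℕ} {x : Fin m} (hx : ¬ x.val < 2 * a) : blockSwap m a x = x := by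
  unfold blockSwap
  split_ifs with h
  · rw [Function.Involutive.coe_toPerm]
    unfold swapFun
    rw [dif_neg (by omega), if_neg hx]
  · rfl

/-- Lower bound for the derived length of a 2-subgroup of `Q ≀ Sym`. -/
theorem Setup.exists_derived_tower {G : Type u} [Group G] {G₀ : Type v} [Group G₀] {m : ℕ}
    {ι : (Fin m → G₀) →* G} {π : Equiv.Perm (Fin m) →* G} (h : Setup ι π) {Q : Subgroup G₀}
    (hQ : IsPGroup 2 ↥Q) {d : ℕ} (hd : derivedSeries ↥Q d ≠ ⊥) :
    ∀ j : ℕ, 2 ^ j ≤ m → ∃ A : Subgroup G, A ≤ supp h {x | x.val < 2 ^ j} ∧ IsPGroup 2 ↥A ∧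
      derivedSeries ↥A (j + d) ≠ ⊥ := by
  intro j
  induction j with
  | zero =>
    intro hm
    set k : Fin m := ⟨0, by simp at hm; omega⟩
    let φ : ↥Q →* G := ι.comp ((MonoidHom.mulSingle (fun _ : Fin m => G₀) k).comp Q.subtype)
    have hφ : Function.Injective φ := fun a b e => Subtype.ext (by
      have := (h.unique (σ := 1) (τ := 1) (show ι (Pi.mulSingle k (a : G₀)) * π 1 = ι (Pi.mulSingle k (b : G₀)) * π 1
        by simpa [φ] using e)).1
      simpa using congrFun this k)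
    refine ⟨φ.range, ?_, hQ.of_surjective φ.rangeRestrict φ.rangeRestrict_surjective, ?_⟩
    · rintro _ ⟨a, rfl⟩
      refine ⟨Pi.mulSingle k (a : G₀), 1, by simp [φ], fun z hz => ?_, fun _ _ => rfl⟩
      rw [Pi.mulSingle_apply, if_neg]
      rintro rfl
      simp [k] at hz
    · rw [zero_add]
      intro e
      exact hd (derivedSeries_eq_bot_of_equiv (MonoidHom.ofInjective hφ) e)
  | succ j ih =>
    intro hm
    rw [pow_succ] at hm
    obtain ⟨A, hA, hAp, hAd⟩ := ih (by omega)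
    set a := 2 ^ j
    set φ := blockSwap m a
    set t := π φ with ht
    have htt : t * t = 1 := by rw [ht, ← map_mul, blockSwap_mul_self, map_one]
    have hdis : Disjoint {x : Fin m | x.val < a} {x : Fin m | a ≤ x.val ∧ x.val < 2 * a} :=
      Set.disjoint_left.2 fun x hx hx' => by simp only [Set.mem_ofPred_eq] at hx hx'; omega
    have hconj : ∀ b ∈ A, t * b * t⁻¹ ∈ supp h {x : Fin m | a ≤ x.val ∧ x.val < 2 * a} := fun b hb =>
      conj_mem_supp h φ (fun z hz => blockSwap_lt (by omega) hz) (hA hb)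
    set A' := A.map (MulAut.conj t).toMonoidHom
    have hBp : IsPGroup 2 ↥(A ⊔ A' : Subgroup G) := by
      refine isPGroup_sup hAp (hAp.map _) ?_
      rintro _ ⟨b, hb, rfl⟩ x hx
      simp only [MulEquiv.coe_toMonoidHom, MulAut.conj_apply]
      rw [← (commute_of_disjoint h hdis (hA hx) (hconj b hb)).eq, mul_inv_cancel_right]
      exact hx
    have hswap : ∀ x ∈ A ⊔ A', t * x * t⁻¹ ∈ A ⊔ A' := by
      have : (A ⊔ A').map (MulAut.conj t).toMonoidHom ≤ A ⊔ A' := by
        rw [Subgroup.map_sup]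
        refine sup_le le_sup_right ?_
        rintro _ ⟨_, ⟨b, hb, rfl⟩, rfl⟩
        refine mem_sup_left ?_
        simp only [MulEquiv.coe_toMonoidHom, MulAut.conj_apply]
        rw [show t * (t * b * t⁻¹) * t⁻¹ = (t * t) * b * (t * t)⁻¹ by group, htt]
        simpa using hb
      exact fun x hx => this ⟨x, hx, rfl⟩
    refine ⟨(A ⊔ A') ⊔ zpowers t, ?_, ?_, ?_⟩
    · refine sup_le (sup_le ?_ ?_) ?_
      · exact hA.trans (supp_mono h fun x hx => by simp only [Set.mem_ofPred_eq] at hx ⊢; omega)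
      · rintro _ ⟨b, hb, rfl⟩
        exact supp_mono h (fun x hx => by simp only [Set.mem_ofPred_eq] at hx ⊢; omega) (hconj b hb)
      · rw [zpowers_le]
        exact ⟨1, φ, by simp [ht], fun _ _ => rfl, fun z hz => blockSwap_ge (by
          simp only [Set.mem_ofPred_eq] at hz; omega)⟩
    · have htp : IsPGroup 2 ↥(zpowers t) := by
        obtain ⟨i, -, hi⟩ := (Nat.dvd_prime_pow Nat.prime_two).1
          (orderOf_dvd_of_pow_eq_one (show t ^ 2 ^ 1 = 1 by rw [pow_one, pow_two, htt]))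
        exact IsPGroup.of_card (n := i) (by rw [Nat.card_zpowers, hi])
      refine isPGroup_sup hBp htp ?_
      rintro _ ⟨i, rfl⟩ x hx
      rcases Int.even_or_odd i with ⟨l, rfl⟩ | ⟨l, rfl⟩
      · show t ^ (l + l) * x * (t ^ (l + l))⁻¹ ∈ _
        rw [_root_.zpow_add, ← (Commute.refl t).mul_zpow, htt, _root_.one_zpow]
        simpa using hx
      · show t ^ (2 * l + 1) * x * (t ^ (2 * l + 1))⁻¹ ∈ _
        rw [_root_.zpow_add, _root_.zpow_mul, _root_.zpow_two, htt, _root_.one_zpow, one_mul, _root_.zpow_one]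
        exact hswap x hx
    · rw [show j + 1 + d = j + d + 1 by omega]
      refine exists_derived_ne (τ := t) (le_sup_left.trans le_sup_left) (mem_sup_right (mem_zpowers t))
        (fun x hx y hy => commute_of_disjoint h hdis (hA hx) (hconj y hy)) (fun x hx y hy e => ?_) hAd
      refine eq_one_of_mem_disjoint h hdis (hA hx) ?_
      rw [eq_inv_of_mul_eq_one_left e]
      exact inv_mem (hconj y hy)

/-- Derived length of a Sylow 2-subgroup of `Sp₂ₘ(q)`. -/
theorem derivedSeries_sylow_Sp {F : Type*} [Field F] [Fintype F] (hF : Odd (Fintype.card F)) {m : ℕ} (hm : 1 ≤ m)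
    (P : Sylow 2 (Matrix.symplecticGroup (Fin m) F)) :
    derivedSeries ↥(P : Subgroup (Matrix.symplecticGroup (Fin m) F)) (Nat.log 2 m + 2) = ⊥ ∧
      derivedSeries ↥(P : Subgroup (Matrix.symplecticGroup (Fin m) F)) (Nat.log 2 m + 1) ≠ ⊥ := by
  have : Fact (Nat.Prime 2) := ⟨Nat.prime_two⟩
  obtain ⟨Q, T, hT, hcard⟩ := exists_wr_Sp hF m
  obtain ⟨k, -, -, ⟨e⟩⟩ := PSL2.sylow_two_quaternion (two_ne_zero_of_odd_card hF) Q
  refine ⟨?_, ?_⟩
  · have h1 := derivedSeries_perm_eq_bot T hT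
    rw [Nat.card_fin] at h1
    have h2 := (spSetup (m := m) (F := F)).derivedSeries_wr_eq_bot (Q := (Q : Subgroup SL(2, F)))
      (derivedSeries_eq_bot_of_equiv e (derivedSeries_two_quaternion _)) h1
    exact derivedSeries_eq_bot_of_equiv (P.equiv (Sylow.ofCard _ hcard)) (by rw [Sylow.coe_ofCard]; exact h2)
  · have hQd : derivedSeries ↥(Q : Subgroup SL(2, F)) 1 ≠ ⊥ := by
      obtain ⟨a, ha, ha2⟩ := exists_sq_ne_one_sylow_SL2 hF Q
      intro e
      have h := sqDer_sylow_SL2 F hF Q ⟨a, ha⟩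
      rw [← derivedSeries_one, e, Subgroup.mem_bot, pow_two] at h
      exact ha2 (congrArg Subtype.val h)
    obtain ⟨A, -, hAp, hAd⟩ := (spSetup (m := m) (F := F)).exists_derived_tower Q.isPGroup' hQd (Nat.log 2 m)
      (Nat.pow_log_le_self 2 (by omega))
    obtain ⟨S, hS⟩ := hAp.exists_le_sylow
    intro e
    exact derivedSeries_ne_bot_of_le hS hAd (derivedSeries_eq_bot_of_equiv (S.equiv P) e)

end Cfsg.Agent.SylowSquares
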