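import Cfsg.Agent.Lib.Fusion.SympSL2
import Cfsg.Agent.Lib.Forms.Symp
import Cfsg.Agent.Lib.SylowSquares.Two
import Cfsg.Agent.Lib.SylowSquares.NormalRank

/-!
# `SL₂(q) ≀ S_m` inside `Sp₂ₘ(q)`; its Sylow 2-subgroups

* `spDiag`, `spPerm`, `spSetup`;
* `exists_wr_Sp`: `Q ≀ T` is a Sylow 2-subgroup (`q` odd);
* facts on the Sylow 2-subgroups of `SL₂(q)`, `GL₁(q)`, `GL₂(q)`.
-/

set_option autoImplicit false

namespace Cfsg.Agent.SylowSquares

open Matrix Subgroup Cfsg.Agent.Fusion.SympBlocks
open scoped MatrixGroups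

variable {m : ℕ} {F : Type*} [Field F]

local notation "Mm" => Matrix (Fin m) (Fin m) F
local notation "Sp" => Matrix.symplecticGroup (Fin m) F

/-- `SL₂^m` on the hyperbolic planes. -/
def spDiag : (Fin m → SL(2, F)) →* Sp where
  toFun f := ofBlocks (diagonal fun k => (f k).1 0 0) (diagonal fun k => (f k).1 0 1)
    (diagonal fun k => (f k).1 1 0) (diagonal fun k => (f k).1 1 1)
    (by simp only [diagonal_transpose, diagonal_mul_diagonal, mul_comm])
    (by simp only [diagonal_transpose, diagonal_mul_diagonal, mul_comm])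
    (by
      simp only [diagonal_transpose, diagonal_mul_diagonal, diagonal_sub]
      rw [← diagonal_one]
      congr 1
      funext k
      linear_combination det_two (f k))
  map_one' := ext_blocks (by simp) (by simp) (by simp) (by simp)
  map_mul' f g := by
    refine ext_blocks ?_ ?_ ?_ ?_ <;>
    simp only [bA_mul, bB_mul, bC_mul, bD_mul, bA_ofBlocks, bB_ofBlocks, bC_ofBlocks, bD_ofBlocks,
      diagonal_mul_diagonal, diagonal_add, Pi.mul_apply, Matrix.SpecialLinearGroup.coe_mul, Matrix.mul_apply,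
      Fin.sum_univ_two]

@[simp] theorem bA_spDiag (f : Fin m → SL(2, F)) : bA (spDiag f) = diagonal fun k => (f k).1 0 0 :=
  toBlocks_fromBlocks₁₁ ..
@[simp] theorem bB_spDiag (f : Fin m → SL(2, F)) : bB (spDiag f) = diagonal fun k => (f k).1 0 1 :=
  toBlocks_fromBlocks₁₂ ..
@[simp] theorem bC_spDiag (f : Fin m → SL(2, F)) : bC (spDiag f) = diagonal fun k => (f k).1 1 0 :=
  toBlocks_fromBlocks₂₁ ..
@[simp] theorem bD_spDiag (f : Fin m → SL(2, F)) : bD (spDiag f) = diagonal fun k => (f k).1 1 1 :=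
  toBlocks_fromBlocks₂₂ ..

/-- Permutation matrices in `GL`. -/
def permGL : Equiv.Perm (Fin m) →* GL (Fin m) F := (permMatrixHom (n := Fin m) (R := F)).toHomUnits

theorem coe_permGL (σ : Equiv.Perm (Fin m)) : ((permGL σ : GL (Fin m) F) : Mm) = (σ⁻¹ : Equiv.Perm (Fin m)).toPEquiv.toMatrix := rfl

theorem coe_inv_permGL_transpose (σ : Equiv.Perm (Fin m)) :
    ((permGL σ : GL (Fin m) F)⁻¹ : GL (Fin m) F).1ᵀ = ((permGL σ : GL (Fin m) F) : Mm) := by
  rw [← map_inv, coe_permGL, coe_permGL, inv_inv, ← PEquiv.toMatrix_symm]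
  rfl

/-- Permuting the planes. -/
def spPerm : Equiv.Perm (Fin m) →* Sp := lev.comp permGL

theorem permGL_mul_diagonal (σ : Equiv.Perm (Fin m)) (d : Fin m → F) :
    ((permGL σ : GL (Fin m) F) : Mm) * diagonal d = diagonal (d ∘ σ.symm) * ((permGL σ : GL (Fin m) F) : Mm) := by
  rw [coe_permGL, PEquiv.toMatrix_toPEquiv_mul, PEquiv.mul_toMatrix_toPEquiv]
  ext i j
  simp only [submatrix_apply, id_eq, diagonal_apply, Function.comp_apply]
  show (if σ.symm i = j then d (σ.symm i) else 0) = if i = σ j then d (σ.symm i) else 0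
  simp only [Equiv.symm_apply_eq]

theorem spSetup : Setup (spDiag (m := m) (F := F)) (spPerm (m := m) (F := F)) := by
  refine ⟨fun σ f => ?_, fun f σ h => ?_⟩
  · rw [mul_inv_eq_iff_eq_mul]
    refine ext_blocks ?_ ?_ ?_ ?_ <;>
    simp only [spPerm, MonoidHom.comp_apply, bA_mul, bB_mul, bC_mul, bD_mul, bA_lev, bB_lev, bC_lev, bD_lev,
      bA_spDiag, bB_spDiag, bC_spDiag, bD_spDiag, coe_inv_permGL_transpose, zero_mul, mul_zero, add_zero, zero_add,
      permGL_mul_diagonal] <;> rfl
  · have hA := congrArg bA h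
    have hB := congrArg bB h
    have hC := congrArg bC h
    have hD := congrArg bD h
    simp only [spPerm, MonoidHom.comp_apply, bA_mul, bB_mul, bC_mul, bD_mul, bA_lev, bB_lev, bC_lev, bD_lev,
      bA_spDiag, bB_spDiag, bC_spDiag, bD_spDiag, coe_inv_permGL_transpose, mul_zero, add_zero, zero_add,
      bA_one, bB_one, bC_one, bD_one] at hA hB hC hD
    have entry : ∀ (d : Fin m → F) (i j : Fin m), (diagonal d * ((permGL σ : GL (Fin m) F) : Mm)) i j = if i = σ j then d i else 0 := by
      intro d i j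
      rw [coe_permGL, PEquiv.mul_toMatrix_toPEquiv]
      simp only [submatrix_apply, id_eq, diagonal_apply]
      rfl
    have hσ : σ = 1 := by
      refine Equiv.ext fun k => ?_
      by_contra hne
      have := congrFun (congrFun hA k) k
      rw [entry, if_neg (fun e => hne e.symm), Matrix.one_apply_eq] at this
      exact zero_ne_one this
    subst hσ
    refine ⟨funext fun k => ?_, rfl⟩
    have e11 := congrFun (congrFun hA k) k
    have e12 := congrFun (congrFun hB k) k
    have e21 := congrFun (congrFun hC k) k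
    have e22 := congrFun (congrFun hD k) k
    simp only [entry, Equiv.Perm.one_apply, if_true, Matrix.one_apply_eq, Matrix.zero_apply] at e11 e12 e21 e22
    refine Matrix.SpecialLinearGroup.ext _ _ fun i j => ?_
    fin_cases i <;> fin_cases j <;> simp [e11, e12, e21, e22]

variable [Fintype F]

theorem card_SL2_factorization (hF : Odd (Fintype.card F)) :
    (Nat.card SL(2, F)).factorization 2 = (Fintype.card F ^ 2 - 1).factorization 2 := by
  have h := factorization_card_GL_eq (F := F) (ι := Fin 2)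
  rw [factorization_card_GL F hF, Finset.sum_range_succ, Finset.sum_range_one, zero_add, pow_one] at h
  norm_num at h ⊢
  omega

theorem exists_wr_Sp (hF : Odd (Fintype.card F)) (m : ℕ) :
    ∃ (Q : Sylow 2 SL(2, F)) (T : Subgroup (Equiv.Perm (Fin m))), IsPGroup 2 ↥T ∧
      Nat.card ↥(wr (spDiag (m := m) (F := F)) spPerm (Q : Subgroup SL(2, F)) T) =
        2 ^ (Nat.card (Matrix.symplecticGroup (Fin m) F)).factorization 2 := by
  have : Fact (Nat.Prime 2) := ⟨Nat.prime_two⟩
  obtain ⟨Q⟩ : Nonempty (Sylow 2 SL(2, F)) := inferInstance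
  obtain ⟨T⟩ : Nonempty (Sylow 2 (Equiv.Perm (Fin m))) := inferInstance
  refine ⟨Q, T, T.isPGroup', ?_⟩
  set q := Fintype.card F with hq
  have hq1 : 1 < q := Fintype.one_lt_card
  have hsq : q ^ 2 % 4 = 1 := by
    obtain ⟨c, hc⟩ := hF
    rw [hc, show (2 * c + 1) ^ 2 = 4 * (c * c + c) + 1 by ring]
    omega
  have hsq1 : q ^ 2 ≠ 1 := (Nat.one_lt_pow two_ne_zero hq1).ne'
  rw [(spSetup).card_wr, Q.card_eq_multiplicity, card_SL2_factorization hF, T.card_eq_multiplicity, Nat.card_perm,
    Nat.card_fin, Fintype.card_fin, ← pow_mul, ← pow_add, Forms.card_symplecticGroup]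
  congr 1
  rw [mul_comm (q ^ (m ^ 2)), factorization_two_mul_odd ?_ hF.pow, Nat.factorization_prod ?_, Finsupp.finsetSum_apply,
    Finset.sum_congr rfl fun i _ => show (q ^ (2 * (i + 1)) - 1).factorization 2 =
      (q ^ 2 - 1).factorization 2 + (i + 1).factorization 2 by
        rw [pow_mul]; exact factorization_pow_sub_one hsq hsq1 (i + 1) (by omega),
    Finset.sum_add_distrib, Finset.sum_const, Finset.card_range, smul_eq_mul, mul_comm m, factorization_factorial_eq]
  · intro i _
    exact Nat.sub_ne_zero_of_lt (Nat.one_lt_pow (show 2 * (i + 1) ≠ 0 by omega) hq1)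
  · refine Finset.prod_ne_zero_iff.2 fun i _ => ?_
    exact Nat.sub_ne_zero_of_lt (Nat.one_lt_pow (show 2 * (i + 1) ≠ 0 by omega) hq1)

omit [Fintype F] in
/-- In `SL₂`, odd characteristic, the only involution is `-1`. -/
theorem eq_neg_one_of_sq {g : SL(2, F)} (h2 : (2 : F) ≠ 0) (hg : g * g = 1) : g = 1 ∨ g = -1 := by
  have hd := det_two g
  have e : ∀ i j, g.1 i 0 * g.1 0 j + g.1 i 1 * g.1 1 j = (1 : Matrix (Fin 2) (Fin 2) F) i j := fun i j => by
    have := congrArg (fun x : SL(2, F) => x.1 i j) hg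
    simpa [Matrix.mul_apply, Fin.sum_univ_two] using this
  have e00 := e 0 0
  have e01 := e 0 1
  have e10 := e 1 0
  have e11 := e 1 1
  simp only [Matrix.one_apply_eq, Matrix.one_apply_ne (show (0 : Fin 2) ≠ 1 by decide),
    Matrix.one_apply_ne (show (1 : Fin 2) ≠ 0 by decide)] at e00 e01 e10 e11
  set a := g.1 0 0
  set b := g.1 0 1
  set c := g.1 1 0
  set d := g.1 1 1
  have ht : a + d ≠ 0 := by
    intro ht
    apply h2
    linear_combination -e00 - hd + a * ht
  have hb : b = 0 := (mul_eq_zero.1 (show b * (a + d) = 0 by linear_combination e01)).resolve_right ht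
  have hc : c = 0 := (mul_eq_zero.1 (show c * (a + d) = 0 by linear_combination e10)).resolve_right ht
  have had : a = d := by
    have : a * (a - d) = 0 := by linear_combination e00 - hd - 2 * b * hc
    rcases mul_eq_zero.1 this with h | h
    · exact absurd (show (1 : F) = 0 by linear_combination -e00 + a * h + c * hb) one_ne_zero
    · linear_combination h
  rcases mul_eq_zero.1 (show (a - 1) * (a + 1) = 0 by linear_combination e00 - c * hb) with h | h
  · left
    refine Matrix.SpecialLinearGroup.ext _ _ fun i j => ?_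
    fin_cases i <;> fin_cases j <;> simp
    exacts [by linear_combination h, hb, hc, by linear_combination h - had]
  · right
    refine Matrix.SpecialLinearGroup.ext _ _ fun i j => ?_
    fin_cases i <;> fin_cases j <;> simp
    exacts [by linear_combination h, hb, hc, by linear_combination h - had]

theorem two_ne_zero_of_odd_card (hF : Odd (Fintype.card F)) : (2 : F) ≠ 0 := PSL2.odd_card_iff.1 hF

theorem neg_one_ne_one_SL2 (h2 : (2 : F) ≠ 0) : (-1 : SL(2, F)) ≠ 1 := fun e => by
  have := congrArg (fun g : SL(2, F) => g.1 0 0) e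
  simp at this
  exact h2 (by linear_combination -this)

theorem exists_sq_ne_one_sylow_SL2 (hF : Odd (Fintype.card F)) (Q : Sylow 2 SL(2, F)) :
    ∃ a ∈ (Q : Subgroup SL(2, F)), a * a ≠ 1 := by
  have h2 := two_ne_zero_of_odd_card hF
  by_contra hh
  push Not at hh
  have hle : Nat.card ↥(Q : Subgroup SL(2, F)) ≤ Nat.card ({1, -1} : Set SL(2, F)) :=
    Nat.card_mono (Set.toFinite _) fun g hg => by
      rcases eq_neg_one_of_sq h2 (hh g hg) with h | h <;> simp [h]
  obtain ⟨k, -, hk, -⟩ := PSL2.sylow_two_quaternion h2 Q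
  have h3 : 2 ^ 2 ≤ 2 ^ (k + 2) := Nat.pow_le_pow_right two_pos (by omega)
  have h4 : Nat.card ({1, -1} : Set SL(2, F)) ≤ 2 := by
    rw [Nat.card_coe_set_eq]
    exact (Set.ncard_insert_le _ _).trans (by simp)
  rw [show Nat.card ↥(Q : Subgroup SL(2, F)) = Nat.card Q from rfl, hk] at hle
  omega

theorem neg_one_mem_sylow_SL2 (hF : Odd (Fintype.card F)) (Q : Sylow 2 SL(2, F)) :
    (-1 : SL(2, F)) ∈ (Q : Subgroup SL(2, F)) := by
  have : Fact (Nat.Prime 2) := ⟨Nat.prime_two⟩
  have h2 := two_ne_zero_of_odd_card hF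
  obtain ⟨k, -, hk, -⟩ := PSL2.sylow_two_quaternion h2 Q
  obtain ⟨x, hx⟩ := exists_prime_orderOf_dvd_card' 2 (show 2 ∣ Nat.card ↥(Q : Subgroup SL(2, F)) by
    rw [show Nat.card ↥(Q : Subgroup SL(2, F)) = Nat.card Q from rfl, hk]; exact dvd_pow_self 2 (by omega))
  have h1 : (x : SL(2, F)) * x = 1 := by
    have h := pow_orderOf_eq_one x
    rw [hx, pow_two] at h
    exact congrArg Subtype.val h
  rcases eq_neg_one_of_sq h2 h1 with h | h
  · exfalso
    rw [show x = 1 from Subtype.ext h, orderOf_one] at hx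
    omega
  · exact h ▸ x.2

theorem card_le_two_of_sq_SL2 (hF : Odd (Fintype.card F)) (E : Subgroup SL(2, F)) (hs : ∀ x ∈ E, x * x = 1) :
    Nat.card ↥E ≤ 2 := by
  refine (Nat.card_mono (t := ({1, -1} : Set SL(2, F))) (Set.toFinite _) fun g hg => ?_).trans ?_
  · rcases eq_neg_one_of_sq (two_ne_zero_of_odd_card hF) (hs g hg) with h | h <;> simp [h]
  · rw [Nat.card_coe_set_eq]
    exact (Set.ncard_insert_le _ _).trans (by simp)

/-- Normal 2-rank of a Sylow 2-subgroup of `Sp₂ₘ(q)`. -/
theorem hasNormalRank_Sp (hF : Odd (Fintype.card F)) (m : ℕ) (P : Sylow 2 (Matrix.symplecticGroup (Fin m) F)) :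
    HasNormalRank ↥(P : Subgroup (Matrix.symplecticGroup (Fin m) F)) m := by
  have h2 := two_ne_zero_of_odd_card hF
  obtain ⟨Q, T, -, hcard⟩ := exists_wr_Sp hF m
  refine HasNormalRank.sylow hcard ?_ P
  have := (spSetup (m := m) (F := F)).hasNormalRank_wr (T := T) (exists_sq_ne_one_sylow_SL2 hF Q)
    (neg_one_mem_sylow_SL2 hF Q)
    (orderOf_eq_prime (by rw [pow_two]; refine Matrix.SpecialLinearGroup.ext _ _ fun i j => ?_; simp)
      (neg_one_ne_one_SL2 h2))
    (fun a _ => by refine Matrix.SpecialLinearGroup.ext _ _ fun i j => ?_; simp [Matrix.mul_assoc])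
    (fun E _ _ hs => card_le_two_of_sq_SL2 hF E hs)
  rwa [Fintype.card_fin] at this

end Cfsg.Agent.SylowSquares
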